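import Mathlib
import Cfsg.Agent.Lib.MinNormal
set_option linter.all false

/-!
# Non-adjacent primes and the Frattini argument

`NonAdj G p s`: no element of `G` has order `p * s`.

* `dvd_card_sub_one`: a `p`-group normalising an `s`-group in `G` has order dividing the order of
  the `s`-group minus one, if `p` and `s` are non-adjacent.
* `pow_dvd_of_normal`: `N` normal, `p ^ k ∣ |G : N|`, then `p ^ k ∣ |N|_s - 1`.
* sections inherit `NonAdj`.
-/

set_option autoImplicit false

namespace Cfsg.Agent.H363.Frat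

open Subgroup

variable {G : Type*} [Group G]

/-- No element of `G` has order `p * s`. -/
def NonAdj (G : Type*) [Group G] (p s : ℕ) : Prop := ∀ g : G, orderOf g ≠ p * s

theorem NonAdj.symm {p s : ℕ} (h : NonAdj G p s) : NonAdj G s p := by
  intro g
  rw [Nat.mul_comm]
  exact h g

theorem NonAdj.of_injective {G' : Type*} [Group G'] {p s : ℕ} (h : NonAdj G p s) (f : G' →* G)
    (hf : Function.Injective f) : NonAdj G' p s := by
  intro g hg
  apply h (f g)
  rw [← hg]
  exact orderOf_injective f hf g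

theorem NonAdj.subgroup {p s : ℕ} (h : NonAdj G p s) (H : Subgroup G) : NonAdj H p s :=
  h.of_injective H.subtype H.subtype_injective

/-- A multiple of `p * s` does not occur either. -/
theorem NonAdj.not_dvd {p s : ℕ} (h : NonAdj G p s) (g : G) (hg : orderOf g ≠ 0) :
    ¬ p * s ∣ orderOf g := by
  rintro ⟨k, hk⟩
  apply h (g ^ k)
  have hk0 : k ≠ 0 := by
    rintro rfl
    exact hg (by simpa using hk)
  rw [orderOf_pow' g hk0, hk, Nat.gcd_eq_right (Dvd.intro_left (p * s) rfl)]
  exact Nat.mul_div_cancel _ (Nat.pos_of_ne_zero hk0)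

theorem NonAdj.of_surjective [Finite G] {G' : Type*} [Group G'] {p s : ℕ} (h : NonAdj G p s)
    (f : G →* G') (hf : Function.Surjective f) : NonAdj G' p s := by
  intro g hg
  obtain ⟨x, rfl⟩ := hf g
  apply h.not_dvd x (orderOf_pos x).ne'
  rw [← hg]
  exact orderOf_map_dvd f x

theorem NonAdj.quotient [Finite G] {p s : ℕ} (h : NonAdj G p s) (N : Subgroup G) [N.Normal] :
    NonAdj (G ⧸ N) p s := h.of_surjective (QuotientGroup.mk' N) (QuotientGroup.mk'_surjective N)

/-- Commuting `p`- and `s`-elements. -/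
theorem eq_one_of_commute [Finite G] {p s : ℕ} (hp : p.Prime) (hs : s.Prime) (hps : p ≠ s)
    (h : NonAdj G p s) {x y : G} (hx : ∃ k, orderOf x = p ^ k) (hy : ∃ k, orderOf y = s ^ k)
    (hxy : Commute x y) (hy1 : y ≠ 1) : x = 1 := by
  by_contra hx1
  obtain ⟨a, ha⟩ := hx
  obtain ⟨b, hb⟩ := hy
  have ha0 : a ≠ 0 := by
    rintro rfl
    exact hx1 (orderOf_eq_one_iff.mp (by simpa using ha))
  have hb0 : b ≠ 0 := by
    rintro rfl
    exact hy1 (orderOf_eq_one_iff.mp (by simpa using hb))
  have hcop : (orderOf x).Coprime (orderOf y) := by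
    rw [ha, hb]
    exact Nat.Coprime.pow _ _ ((Nat.coprime_primes hp hs).mpr hps)
  have h1 : orderOf (x * y) = p ^ a * s ^ b := by
    rw [hxy.orderOf_mul_eq_mul_orderOf_of_coprime hcop, ha, hb]
  apply h.not_dvd (x * y) (orderOf_pos _).ne'
  rw [h1]
  exact Nat.mul_dvd_mul (dvd_pow_self p ha0) (dvd_pow_self s hb0)

/-- A free action of a finite group: the order of the group divides the number of points. -/
theorem card_dvd_of_free {A Y : Type*} [Group A] [Finite A] [Finite Y] [MulAction A Y]
    (h : ∀ (a : A) (y : Y), a • y = y → a = 1) : Nat.card A ∣ Nat.card Y := by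
  classical
  have e := MulAction.selfEquivSigmaOrbits A Y
  have : Fintype (Quotient (MulAction.orbitRel A Y)) := Fintype.ofFinite _
  have h1 : ∀ y : Y, Nat.card (MulAction.orbit A y) = Nat.card A := by
    intro y
    have h2 := MulAction.orbitEquivQuotientStabilizer A y
    have h3 : MulAction.stabilizer A y = ⊥ := by
      rw [eq_bot_iff]
      intro a ha
      exact Subgroup.mem_bot.mpr (h a y ha)
    rw [Nat.card_congr h2, h3]
    exact Nat.card_congr (QuotientGroup.quotientBot).toEquiv
  rw [Nat.card_congr e, Nat.card_sigma]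
  apply Finset.dvd_sum
  intro ω _
  rw [h1]

/-- A `p`-subgroup `Q` normalising the `s`-subgroup `S`, `p`, `s` non-adjacent: `|Q|` divides
`|S| - 1`. -/
theorem dvd_card_sub_one [Finite G] {p s : ℕ} (hp : p.Prime) (hs : s.Prime) (hps : p ≠ s)
    (h : NonAdj G p s) {Q S : Subgroup G} (hQ : IsPGroup p Q) (hS : IsPGroup s S)
    (hQS : Q ≤ normalizer (S : Set G)) : Nat.card Q ∣ Nat.card S - 1 := by
  have : Fact p.Prime := ⟨hp⟩
  have : Fact s.Prime := ⟨hs⟩
  let Y := {v : G // v ∈ S ∧ v ≠ 1}
  have hn : ∀ a : Q, ∀ v ∈ S, (a : G) * v * (a : G)⁻¹ ∈ S := fun a v hv =>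
    (mem_normalizer_iff.mp (hQS a.2) v).mp hv
  let _act : MulAction Q Y :=
    { smul := fun a y => ⟨(a : G) * y.1 * (a : G)⁻¹, hn a _ y.2.1, fun h => y.2.2 (by
        have : y.1 = (a : G)⁻¹ * ((a : G) * y.1 * (a : G)⁻¹) * (a : G) := by group
        rw [this, h]; group)⟩
      one_smul := fun y => by
        apply Subtype.ext
        change ((1 : Q) : G) * y.1 * ((1 : Q) : G)⁻¹ = y.1
        simp
      mul_smul := fun a b y => by
        apply Subtype.ext
        change ((a * b : Q) : G) * y.1 * ((a * b : Q) : G)⁻¹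
          = (a : G) * ((b : G) * y.1 * (b : G)⁻¹) * (a : G)⁻¹
        rw [Subgroup.coe_mul]; group }
  have h1 : Nat.card Q ∣ Nat.card Y := by
    apply card_dvd_of_free
    intro a y hay
    have h2 : (a : G) * y.1 * (a : G)⁻¹ = y.1 := congrArg Subtype.val hay
    have h3 : Commute (a : G) y.1 := by
      show (a : G) * y.1 = y.1 * (a : G)
      calc (a : G) * y.1 = ((a : G) * y.1 * (a : G)⁻¹) * (a : G) := by group
        _ = y.1 * (a : G) := by rw [h2]
    have h4 : (a : G) = 1 := by
      apply eq_one_of_commute hp hs hps h ?_ ?_ h3 y.2.2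
      · obtain ⟨k, hk⟩ := (IsPGroup.iff_orderOf.mp hQ) a
        exact ⟨k, by rw [← hk, Subgroup.orderOf_coe]⟩
      · obtain ⟨k, hk⟩ := (IsPGroup.iff_orderOf.mp hS) ⟨y.1, y.2.1⟩
        exact ⟨k, by rw [← hk, ← Subgroup.orderOf_coe]⟩
    exact Subtype.ext h4
  have h2 : Nat.card Y = Nat.card S - 1 := by
    have h3 : Nat.card Y + 1 = Nat.card S := by
      have h4 : Nat.card Y = ((S : Set G) \ {1}).ncard := by
        rw [← Nat.card_coe_set_eq]
        rfl
      rw [h4, Set.ncard_sdiff_singleton_add_one (one_mem S) (Set.toFinite _)]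
      exact (Nat.card_coe_set_eq _).symm
    omega
  rw [← h2]
  exact h1

/-- **Frattini**: `N` normal, `p ^ k` divides `|G : N|`, `p` and `s` non-adjacent: for a Sylow
`s`-subgroup `S` of `N`, a subgroup of `N_G(S)` is a `p`-group of order divisible by `p ^ k`. -/
theorem exists_normalizing [Finite G] {p s : ℕ} (hp : p.Prime) (hs : s.Prime)
    (N : Subgroup G) [N.Normal] {k : ℕ} (hk : p ^ k ∣ N.index) :
    ∃ S Q : Subgroup G, S ≤ N ∧ IsPGroup s S ∧ Nat.card S = s ^ (Nat.card N).factorization s ∧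
      IsPGroup p Q ∧ p ^ k ∣ Nat.card Q ∧ Q ≤ normalizer (S : Set G) := by
  have : Fact p.Prime := ⟨hp⟩
  have : Fact s.Prime := ⟨hs⟩
  let P : Sylow s N := default
  set S : Subgroup G := (P : Subgroup N).map N.subtype with hS
  have hSN : S ≤ N := by
    rintro _ ⟨x, _, rfl⟩
    exact x.2
  have hSp : IsPGroup s S := P.2.map _
  have hcard : Nat.card S = s ^ (Nat.card N).factorization s := by
    rw [hS, Nat.card_congr ((P : Subgroup N).equivMapOfInjective N.subtype
      N.subtype_injective).symm.toEquiv]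
    exact P.card_eq_multiplicity
  have hfrat : normalizer (S : Set G) ⊔ N = ⊤ := Sylow.normalizer_sup_eq_top P
  have hdvd : p ^ k ∣ Nat.card (normalizer (S : Set G)) := by
    have h1 : N.relIndex (normalizer (S : Set G)) = N.index := by
      rw [← relIndex_sup_right, hfrat, relIndex_top_right]
    have h2 : N.relIndex (normalizer (S : Set G)) ∣ Nat.card (normalizer (S : Set G)) :=
      relIndex_dvd_card _ _
    rw [h1] at h2
    exact hk.trans h2
  let Q₀ : Sylow p (normalizer (S : Set G)) := default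
  refine ⟨S, (Q₀ : Subgroup (normalizer (S : Set G))).map (normalizer (S : Set G)).subtype,
    hSN, hSp, hcard, Q₀.2.map _, ?_, ?_⟩
  · rw [Nat.card_congr ((Q₀ : Subgroup (normalizer (S : Set G))).equivMapOfInjective
      (normalizer (S : Set G)).subtype (normalizer (S : Set G)).subtype_injective).symm.toEquiv]
    rw [Q₀.card_eq_multiplicity]
    apply Nat.pow_dvd_pow
    exact (hp.pow_dvd_iff_le_factorization Nat.card_pos.ne').mp hdvd
  · rintro _ ⟨x, _, rfl⟩
    exact x.2

/-- `N` normal, `p ^ k` divides `|G : N|`, `p` and `s` non-adjacent: `p ^ k` divides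
`|N|_s - 1`. -/
theorem pow_dvd_of_normal [Finite G] {p s : ℕ} (hp : p.Prime) (hs : s.Prime) (hps : p ≠ s)
    (h : NonAdj G p s) (N : Subgroup G) [N.Normal] {k : ℕ} (hk : p ^ k ∣ N.index) :
    p ^ k ∣ s ^ (Nat.card N).factorization s - 1 := by
  obtain ⟨S, Q, _, hS, hcard, hQ, hdvd, hQS⟩ := exists_normalizing hp hs N hk
  have h1 := dvd_card_sub_one hp hs hps h hQ hS hQS
  rw [hcard] at h1
  exact hdvd.trans h1

/-- The quotient `H / N` for `H` the preimage of a subgroup of `G / N`. -/
noncomputable def quotEquiv (N : Subgroup G) [N.Normal] (M : Subgroup (G ⧸ N)) :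
    ↥(M.comap (QuotientGroup.mk' N)) ⧸ N.subgroupOf (M.comap (QuotientGroup.mk' N)) ≃* M := by
  refine (QuotientGroup.quotientMulEquivOfEq ?_).trans
    (QuotientGroup.quotientKerEquivOfSurjective
      ((QuotientGroup.mk' N).subgroupComap M)
      (MonoidHom.subgroupComap_surjective_of_surjective _ _ (QuotientGroup.mk'_surjective N)))
  ext x
  rw [mem_subgroupOf, MonoidHom.mem_ker]
  constructor
  · intro hx
    apply Subtype.ext
    exact (QuotientGroup.eq_one_iff (x : G)).mpr hx
  · intro hx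
    exact (QuotientGroup.eq_one_iff (x : G)).mp (congrArg Subtype.val hx)

/-- A minimal normal subgroup whose order is divisible by `p` but not by `p²` is simple. -/
theorem isSimple_of_minimal [Finite G] (M : Subgroup G) [M.Normal]
    (hmin : ∀ L : Subgroup G, L.Normal → L ≤ M → L = ⊥ ∨ L = M) {p : ℕ} (hp : p.Prime)
    (h1 : p ∣ Nat.card M) (h2 : ¬ p ^ 2 ∣ Nat.card M) : IsSimpleGroup M := by
  have hM : M ≠ ⊥ := by
    rintro rfl
    rw [Subgroup.card_bot] at h1
    exact hp.one_lt.ne' (Nat.dvd_one.mp h1)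
  obtain ⟨T, m, _, hT, hm, ⟨e⟩⟩ := Cfsg.Agent.Lib.MinNormal.exists_mulEquiv_pi M hM hmin
  have hcard : Nat.card M = Nat.card T ^ m := by
    rw [Nat.card_congr e.toEquiv, Nat.card_fun]
    simp
  have hpT : p ∣ Nat.card T := by
    rw [hcard] at h1
    exact hp.dvd_of_dvd_pow h1
  have hm1 : m = 1 := by
    by_contra hne
    apply h2
    rw [hcard]
    exact (pow_dvd_pow p (by omega)).trans (pow_dvd_pow_of_dvd hpT m)
  subst hm1
  have := hT
  exact (e.trans (MulEquiv.funUnique (Fin 1) T)).isSimpleGroup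

end Cfsg.Agent.H363.Frat
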