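import Mathlib
import Cfsg.Agent.Prune
set_option linter.all false
prune_inst 0x7f00000000000000000000000000000000000000000000000000000000000000000000000000000000000000000000000000000000000000000000000000000000000000000000000000000000000000003fffffffffffffffffffffffffffbeffbdffffffff
open scoped Cfsg.Agent.FastGrp

/-!
# `PSL_n` over finite fields of the same order
-/

set_option autoImplicit false

namespace Cfsg.Agent.H363.PslCard

open Matrix

/-- `SL_n` over isomorphic rings. -/
def slEquiv {n : Type*} [Fintype n] [DecidableEq n] {R S : Type*} [CommRing R] [CommRing S]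
    (e : R ≃+* S) : SpecialLinearGroup n R ≃* SpecialLinearGroup n S :=
  MulEquiv.mk' ⟨SpecialLinearGroup.map (e : R →+* S), SpecialLinearGroup.map (e.symm : S →+* R),
    fun A => by
      apply Subtype.ext
      ext i j
      simp [SpecialLinearGroup.map_apply_coe],
    fun A => by
      apply Subtype.ext
      ext i j
      simp [SpecialLinearGroup.map_apply_coe]⟩ (fun A B => map_mul (SpecialLinearGroup.map (e : R →+* S)) A B)

theorem map_center {G H : Type*} [Group G] [Group H] (e : G ≃* H) :
    (Subgroup.center G).map (e : G →* H) = Subgroup.center H := by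
  ext y
  constructor
  · rintro ⟨x, hx, rfl⟩
    rw [Subgroup.mem_center_iff]
    intro g
    have h1 := Subgroup.mem_center_iff.mp hx (e.symm g)
    have h2 := congrArg e h1
    simpa using h2
  · intro hy
    refine ⟨e.symm y, ?_, by simp⟩
    rw [SetLike.mem_coe, Subgroup.mem_center_iff]
    intro g
    have h1 := Subgroup.mem_center_iff.mp hy (e g)
    apply e.injective
    simpa using h1

/-- `PSL_n` over isomorphic rings. -/
noncomputable def pslEquiv {n : Type*} [Fintype n] [DecidableEq n] {R S : Type*} [CommRing R]
    [CommRing S] (e : R ≃+* S) : ProjectiveSpecialLinearGroup n R ≃* ProjectiveSpecialLinearGroup n S :=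
  QuotientGroup.congr _ _ (slEquiv e) (map_center (slEquiv e))

/-- `PSL_n` over finite fields of the same order. -/
theorem psl_of_card {n : Type*} [Fintype n] [DecidableEq n] {F F' : Type*} [Field F] [Fintype F]
    [Field F'] [Fintype F'] (h : Fintype.card F = Fintype.card F') :
    Nonempty (ProjectiveSpecialLinearGroup n F ≃* ProjectiveSpecialLinearGroup n F') :=
  ⟨pslEquiv (FiniteField.ringEquivOfCardEq h)⟩

/-- Isomorphic groups have the same order and spectrum. -/
theorem spec_of_equiv {G H : Type*} [Group G] [Group H] (e : G ≃* H) :
    Set.range (orderOf : G → ℕ) = Set.range (orderOf : H → ℕ) ∧ Nat.card G = Nat.card H := by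
  refine ⟨?_, Nat.card_congr e.toEquiv⟩
  ext n
  constructor
  · rintro ⟨g, rfl⟩
    exact ⟨e g, orderOf_injective (e : G →* H) e.injective g⟩
  · rintro ⟨g, rfl⟩
    exact ⟨e.symm g, orderOf_injective (e.symm : H →* G) e.symm.injective g⟩

end Cfsg.Agent.H363.PslCard
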