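import Mathlib
import Cfsg.Agent.H363.Frat
import Cfsg.Agent.H363.TwoPrimes
set_option linter.all false

/-!
# Large primes and the alternating groups

For primes `p ≠ s` greater than `n / 2` there is no permutation of degree `n` of order `p * s`;
`p` divides `n! / 2` exactly once.
-/

set_option autoImplicit false

namespace Cfsg.Agent.H363.AltPrimes

open Cfsg.Agent.H363.Frat

/-- The transfer of `NonAdj` along equality of spectra. -/
theorem nonAdj_of_range {G H : Type*} [Group G] [Group H]
    (h : Set.range (orderOf : G → ℕ) = Set.range (orderOf : H → ℕ)) {p s : ℕ}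
    (hH : NonAdj H p s) : NonAdj G p s := by
  intro g hg
  have h1 : p * s ∈ Set.range (orderOf : H → ℕ) := by
    rw [← h]
    exact ⟨g, hg⟩
  obtain ⟨x, hx⟩ := h1
  exact hH x hx

theorem exists_dvd_cycleType {n : ℕ} (σ : Equiv.Perm (Fin n)) {p : ℕ} (hp : p.Prime)
    (h : p ∣ orderOf σ) : ∃ c ∈ σ.cycleType, p ∣ c := by
  rw [← Equiv.Perm.lcm_cycleType] at h
  have key : ∀ m : Multiset ℕ, p ∣ m.lcm → ∃ c ∈ m, p ∣ c := by
    intro m
    induction m using Multiset.induction_on with
    | empty =>
      intro h
      rw [Multiset.lcm_zero] at h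
      exact absurd (Nat.dvd_one.mp h) hp.one_lt.ne'
    | cons a m ih =>
      intro h
      rw [Multiset.lcm_cons] at h
      rcases (Nat.Prime.dvd_lcm hp).mp h with h | h
      · exact ⟨a, Multiset.mem_cons_self a m, h⟩
      · obtain ⟨c, hc, h⟩ := ih h
        exact ⟨c, Multiset.mem_cons_of_mem hc, h⟩
  exact key _ h

theorem nonAdj_perm {n p s : ℕ} (hp : p.Prime) (hs : s.Prime) (hps : p ≠ s) (hnp : n < 2 * p)
    (hns : n < 2 * s) : NonAdj (Equiv.Perm (Fin n)) p s := by
  intro σ hσ
  obtain ⟨c, hc, hpc⟩ := exists_dvd_cycleType σ hp (by rw [hσ]; exact dvd_mul_right _ _)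
  obtain ⟨d, hd, hsd⟩ := exists_dvd_cycleType σ hs (by rw [hσ]; exact dvd_mul_left _ _)
  have hsum : σ.cycleType.sum ≤ n := by
    rw [Equiv.Perm.sum_cycleType]
    simpa using σ.support.card_le_univ
  have hcpos : 0 < c := lt_of_lt_of_le two_pos (Equiv.Perm.two_le_of_mem_cycleType hc)
  have hdpos : 0 < d := lt_of_lt_of_le two_pos (Equiv.Perm.two_le_of_mem_cycleType hd)
  have hpc' := Nat.le_of_dvd hcpos hpc
  have hsd' := Nat.le_of_dvd hdpos hsd
  obtain ⟨t, ht⟩ := Multiset.exists_cons_of_mem hc
  by_cases hcd : c = d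
  · subst hcd
    have h1 : p * s ∣ c := (Nat.Coprime.mul_dvd_of_dvd_of_dvd
      ((Nat.coprime_primes hp hs).mpr hps) hpc hsd)
    have h2 := Nat.le_of_dvd hcpos h1
    have h3 : c ≤ n := by
      rw [ht, Multiset.sum_cons] at hsum
      omega
    have h4 := hp.two_le
    nlinarith
  · have hd' : d ∈ t := by
      rw [ht] at hd
      rcases Multiset.mem_cons.mp hd with h | h
      · exact absurd h.symm hcd
      · exact h
    obtain ⟨u, hu⟩ := Multiset.exists_cons_of_mem hd'
    rw [ht, hu, Multiset.sum_cons, Multiset.sum_cons] at hsum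
    omega

theorem nonAdj_alternating {n p s : ℕ} (hp : p.Prime) (hs : s.Prime) (hps : p ≠ s)
    (hnp : n < 2 * p) (hns : n < 2 * s) : NonAdj (alternatingGroup (Fin n)) p s :=
  (nonAdj_perm hp hs hps hnp hns).subgroup _

theorem card_alternating {n : ℕ} (hn : 2 ≤ n) :
    2 * Nat.card (alternatingGroup (Fin n)) = n.factorial := by
  have : Nontrivial (Fin n) := Fin.nontrivial_iff_two_le.mpr hn
  rw [two_mul_nat_card_alternatingGroup, Nat.card_eq_fintype_card, Fintype.card_perm,
    Fintype.card_fin]

theorem factorization_factorial {n p : ℕ} (hp : p.Prime) (hpn : p ≤ n) (hnp : n < 2 * p)  :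
    n.factorial.factorization p = 1 := by
  have h1 : p ∣ n.factorial := (hp.dvd_factorial).mpr hpn
  have h2 : ¬ p ^ 2 ∣ n.factorial := by
    have key : ∀ m, m < 2 * p → ¬ p ^ 2 ∣ m.factorial := by
      intro m
      induction m with
      | zero =>
        intro _ h
        have := Nat.le_of_dvd Nat.one_pos (by simpa using h)
        have := hp.two_le
        nlinarith
      | succ m ih =>
        intro hm h
        rw [Nat.factorial_succ] at h
        by_cases hpm : p ∣ m + 1
        · obtain ⟨c, hc⟩ := hpm
          have hc1 : c = 1 := by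
            have h3 : c < 2 := by
              by_contra hcc
              have : p * 2 ≤ p * c := Nat.mul_le_mul_left p (by omega)
              omega
            have h4 : c ≠ 0 := by
              rintro rfl
              omega
            omega
          subst hc1
          rw [Nat.mul_one] at hc
          rw [hc, pow_two] at h
          have h5 := Nat.dvd_of_mul_dvd_mul_left hp.pos h
          rw [hp.dvd_factorial] at h5
          omega
        · exact ih (by omega) ((Nat.Coprime.dvd_of_dvd_mul_left
            ((hp.coprime_iff_not_dvd.mpr hpm).pow_left 2)) h)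
    exact key n hnp
  have h3 : 1 ≤ n.factorial.factorization p :=
    (hp.dvd_iff_one_le_factorization n.factorial_ne_zero).mp h1
  have h4 : ¬ 2 ≤ n.factorial.factorization p := fun h =>
    h2 ((hp.pow_dvd_iff_le_factorization n.factorial_ne_zero).mpr h)
  omega

theorem factorization_alternating {n p : ℕ} (hn : 2 ≤ n) (hp : p.Prime) (hp2 : p ≠ 2)
    (hpn : p ≤ n) (hnp : n < 2 * p) :
    (Nat.card (alternatingGroup (Fin n))).factorization p = 1 := by
  have h1 := factorization_factorial hp hpn hnp
  rw [← card_alternating hn, Nat.factorization_mul two_ne_zero Nat.card_pos.ne',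
    Finsupp.add_apply, Nat.Prime.factorization Nat.prime_two] at h1
  simpa [Finsupp.single_apply, hp2.symm] using h1

end Cfsg.Agent.H363.AltPrimes
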