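import Mathlib
import Cfsg.Agent.H363.Frat
import Cfsg.Agent.Lib.MinNormalNonabelian
import Cfsg.Agent.S0033
import Cfsg.Agent.OddOrderLocal.CyclicSub
import Cfsg.Agent.OddOrderLocal.ComplAux
import Cfsg.Agent.Lib.SubnormalJoin
import Cfsg.Agent.Lib.NormalAbelian
import Cfsg.Agent.H363.PslTorus
import Cfsg.Agent.S0243
import Cfsg.Agent.FastGrp
import Cfsg.Agent.Prune
set_option linter.all false

section
prune_inst 0x7ffdbcffbff8bddfffff7e7ffed9dffe3bd4dfffffdffb4bfffcfbffbfdf230e3bed6baf1de0d8ff0ef7e29630b87853f97eeeffee6bdc7ffffd5ff45ffbee1ff5f7bd8851d79c340fbc6fffe3f17fce7f3fffffffffffffffffffffffffffbeffffffffffff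

-- part: H363/IsoHallMain
section
prune_inst 0x4200000000000000018001240000000000000000000000010400402000614002901080140000d100010000000000008100000100010000000000000000000208022500082080104200001802003180c00000000000000000000000000041000000000000
set_option linter.all false
open scoped Cfsg.Agent.FastGrp

-- part: H363/IsoHall
section
/-!
# Isolated cyclic Hall subgroups

`G` finite of order `m * k`, `m` and `k` coprime, `x` an element of order `m`, and no element of
order `r * s` for primes `r ∣ m`, `s ∣ k`.  Then `T = ⟨x⟩` is its own centralizer, a TI subgroup,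
`|G : N(T)| ≡ 1 mod m`, and if `|N(T) : T| = n` is a prime then `G` is simple or has a normal
elementary abelian subgroup of order prime to `m`.
-/

set_option autoImplicit false

namespace Cfsg.Agent.H363.IsoHall

open Subgroup Cfsg.Agent.H363.Frat

/-- An isolated cyclic Hall subgroup `⟨x⟩` of order `m`. -/
structure Hyp (G : Type*) [Group G] (m k : ℕ) (x : G) : Prop where
  ord : orderOf x = m
  card : Nat.card G = m * k
  cop : m.Coprime k
  two : 2 ≤ m
  nonadj : ∀ r s : ℕ, r.Prime → s.Prime → r ∣ m → s ∣ k → NonAdj G r s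

variable {G : Type*} [Group G] [Finite G] {m k : ℕ} {x : G}

omit [Finite G] in
theorem card_zpowers (h : Hyp G m k x) : Nat.card (zpowers x) = m := by
  rw [Nat.card_zpowers, h.ord]

theorem k_pos (h : Hyp G m k x) : 0 < k := by
  rcases Nat.eq_zero_or_pos k with h0 | h0
  · have := h.card
    rw [h0, Nat.mul_zero] at this
    exact absurd this Nat.card_pos.ne'
  · exact h0

/-- A nontrivial element of `T` has a power of prime order `r ∣ m`. -/
theorem exists_prime_pow (h : Hyp G m k x) {y : G} (hy : y ∈ zpowers x) (hy1 : y ≠ 1) :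
    ∃ (r j : ℕ), r.Prime ∧ r ∣ m ∧ orderOf (y ^ j) = r := by
  have h1 : orderOf y ≠ 1 := fun h => hy1 (orderOf_eq_one_iff.mp h)
  obtain ⟨r, hr, hry⟩ := Nat.exists_prime_and_dvd h1
  obtain ⟨j, hj⟩ := hry
  have hj0 : j ≠ 0 := by
    rintro rfl
    exact (orderOf_pos y).ne' (by simpa using hj)
  refine ⟨r, j, hr, ?_, ?_⟩
  · have h2 : orderOf y ∣ m := by
      rw [← card_zpowers h]
      have := orderOf_dvd_natCard (⟨y, hy⟩ : zpowers x)
      rwa [Subgroup.orderOf_mk] at this
    exact (Dvd.intro _ hj.symm).trans h2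
  · rw [orderOf_pow' y hj0, hj, Nat.gcd_eq_right (Dvd.intro_left _ rfl)]
    exact Nat.mul_div_cancel _ (Nat.pos_of_ne_zero hj0)

/-- A subgroup centralizing a nontrivial element of `T` has order dividing `m`. -/
theorem card_dvd_of_centralizes (h : Hyp G m k x) {y : G} (hy : y ∈ zpowers x) (hy1 : y ≠ 1)
    {C : Subgroup G} (hC : ∀ c ∈ C, c * y = y * c) : Nat.card C ∣ m := by
  obtain ⟨r, j, hr, hrm, hj⟩ := exists_prime_pow h hy hy1
  have hcop : (Nat.card C).Coprime k := by
    rw [Nat.coprime_iff_gcd_eq_one]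
    by_contra hne
    obtain ⟨s, hs, hsd⟩ := Nat.exists_prime_and_dvd hne
    have hsC := hsd.trans (Nat.gcd_dvd_left _ _)
    have hsk := hsd.trans (Nat.gcd_dvd_right _ _)
    have : Fact s.Prime := ⟨hs⟩
    obtain ⟨c, hc⟩ := exists_prime_orderOf_dvd_card' s hsC
    have hcy : Commute (y ^ j) (c : G) := (Commute.pow_left (hC c c.2).symm j)
    have hrs : r ≠ s := by
      rintro rfl
      have h3 := Nat.dvd_gcd hrm hsk
      rw [h.cop] at h3
      exact hr.one_lt.ne' (Nat.dvd_one.mp h3)
    have hc1 : (c : G) ≠ 1 := by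
      intro h1
      have : c = 1 := Subtype.ext h1
      rw [this, orderOf_one] at hc
      exact hs.one_lt.ne hc
    have := eq_one_of_commute hr hs hrs (h.nonadj r s hr hs hrm hsk) (x := y ^ j) (y := c)
      ⟨1, by rw [hj, pow_one]⟩ ⟨1, by rw [Subgroup.orderOf_coe, hc, pow_one]⟩ hcy hc1
    rw [this, orderOf_one] at hj
    exact hr.one_lt.ne hj
  have h1 : Nat.card C ∣ m * k := by
    rw [← h.card]
    exact card_subgroup_dvd_card C
  exact hcop.dvd_of_dvd_mul_right h1

/-- `C_G(y) = T` for `1 ≠ y ∈ T`. -/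
theorem mem_of_commute (h : Hyp G m k x) {y g : G} (hy : y ∈ zpowers x) (hy1 : y ≠ 1)
    (hg : g * y = y * g) : g ∈ zpowers x := by
  have h1 : Nat.card (centralizer ({y} : Set G)) ∣ m := by
    apply card_dvd_of_centralizes h hy hy1
    intro c hc
    exact (mem_centralizer_singleton_iff.mp hc)
  have h2 : zpowers x ≤ centralizer ({y} : Set G) := by
    intro z hz
    rw [mem_centralizer_singleton_iff]
    obtain ⟨i, rfl⟩ := mem_zpowers_iff.mp hz
    obtain ⟨j, rfl⟩ := mem_zpowers_iff.mp hy
    exact (Commute.zpow_zpow (Commute.refl x) i j)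
  have h3 : zpowers x = centralizer ({y} : Set G) := by
    apply Subgroup.eq_of_le_of_card_ge h2
    rw [card_zpowers h]
    exact Nat.le_of_dvd (by have := h.two; omega) h1
  rw [h3, mem_centralizer_singleton_iff]
  exact hg

/-- A nontrivial subgroup of `T` has the same normalizer as `T`. -/
theorem normalizer_eq (h : Hyp G m k x) {S : Subgroup G} (hS : S ≤ zpowers x) (hS1 : S ≠ ⊥) :
    normalizer (S : Set G) = normalizer (zpowers x : Set G) := by
  apply le_antisymm
  · intro g hg
    rw [mem_normalizer_iff] at hg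
    obtain ⟨⟨y, hyS⟩, hy1'⟩ := Subgroup.ne_bot_iff_exists_ne_one.mp hS1
    have hy1 : y ≠ 1 := fun h => hy1' (Subtype.ext h)
    have key : ∀ u : G, (∀ z ∈ S, u * z = z * u) ↔ u ∈ zpowers x := by
      intro u
      constructor
      · intro hu
        exact mem_of_commute h (hS hyS) hy1 (hu _ hyS)
      · intro hu z hz
        obtain ⟨i, rfl⟩ := mem_zpowers_iff.mp hu
        obtain ⟨j, rfl⟩ := mem_zpowers_iff.mp (hS hz)
        exact (Commute.zpow_zpow (Commute.refl x) i j)
    rw [mem_normalizer_iff]
    intro u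
    rw [← key, ← key]
    constructor
    · intro hu z hz
      have h1 : g⁻¹ * z * g ∈ S := by
        rw [hg]
        convert hz using 1
        group
      have h2 := hu _ h1
      calc g * u * g⁻¹ * z = g * (u * (g⁻¹ * z * g)) * g⁻¹ := by group
        _ = g * ((g⁻¹ * z * g) * u) * g⁻¹ := by rw [h2]
        _ = z * (g * u * g⁻¹) := by group
    · intro hu z hz
      have h1 : g * z * g⁻¹ ∈ S := (hg z).mp hz
      have h2 := hu _ h1
      calc u * z = g⁻¹ * ((g * u * g⁻¹) * (g * z * g⁻¹)) * g := by group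
        _ = g⁻¹ * ((g * z * g⁻¹) * (g * u * g⁻¹)) * g := by rw [h2]
        _ = z * u := by group
  · intro g hg
    rw [mem_normalizer_iff_map_conj_eq] at hg ⊢
    have h1 : S.map (MulAut.conj g : G →* G) ≤ zpowers x := by
      rw [← hg]
      exact map_mono hS
    have hcard : Nat.card (S.map (MulAut.conj g : G →* G)) = Nat.card S :=
      Nat.card_congr (S.equivMapOfInjective _ (MulAut.conj g).injective).symm.toEquiv
    exact Cfsg.Agent.OddOrderLocal.CyclicSub.eq_of_card_eq_of_le_cyclic
      (inferInstance : IsCyclic (zpowers x)) h1 hS hcard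

/-- `N_G(T)` acts on a nontrivial subgroup `S` of `T`; all orbits on `S - 1` have length
`|N_G(T) : T|`. -/
theorem index_dvd (h : Hyp G m k x) {S : Subgroup G} (hS : S ≤ zpowers x) :
    (zpowers x).relIndex (normalizer (zpowers x : Set G)) ∣ Nat.card S - 1 := by
  by_cases hS1 : S = ⊥
  · rw [hS1, Subgroup.card_bot]
    exact dvd_zero _
  set N := normalizer (zpowers x : Set G) with hN
  have hNS : N = normalizer (S : Set G) := (normalizer_eq h hS hS1).symm
  let Y := {v : G // v ∈ S ∧ v ≠ 1}
  have hn : ∀ a : N, ∀ v ∈ S, (a : G) * v * (a : G)⁻¹ ∈ S := fun a v hv => by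
    have ha : (a : G) ∈ normalizer (S : Set G) := hNS ▸ a.2
    exact (mem_normalizer_iff.mp ha v).mp hv
  let _act : MulAction N Y :=
    { smul := fun a y => ⟨(a : G) * y.1 * (a : G)⁻¹, hn a _ y.2.1, fun h => y.2.2 (by
        have : y.1 = (a : G)⁻¹ * ((a : G) * y.1 * (a : G)⁻¹) * (a : G) := by group
        rw [this, h]; group)⟩
      one_smul := fun y => by
        apply Subtype.ext
        change ((1 : N) : G) * y.1 * ((1 : N) : G)⁻¹ = y.1
        simp
      mul_smul := fun a b y => by
        apply Subtype.ext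
        change ((a * b : N) : G) * y.1 * ((a * b : N) : G)⁻¹
          = (a : G) * ((b : G) * y.1 * (b : G)⁻¹) * (a : G)⁻¹
        rw [Subgroup.coe_mul]; group }
  have hstab : ∀ y : Y, MulAction.stabilizer N y = (zpowers x).subgroupOf N := by
    intro y
    ext a
    rw [MulAction.mem_stabilizer_iff, mem_subgroupOf]
    constructor
    · intro ha
      have h1 : (a : G) * y.1 * (a : G)⁻¹ = y.1 := congrArg Subtype.val ha
      apply mem_of_commute h (hS y.2.1) y.2.2
      calc (a : G) * y.1 = ((a : G) * y.1 * (a : G)⁻¹) * (a : G) := by group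
        _ = y.1 * (a : G) := by rw [h1]
    · intro ha
      apply Subtype.ext
      change (a : G) * y.1 * (a : G)⁻¹ = y.1
      obtain ⟨i, hi⟩ := mem_zpowers_iff.mp ha
      obtain ⟨j, hj⟩ := mem_zpowers_iff.mp (hS y.2.1)
      have : (a : G) * y.1 = y.1 * (a : G) := by
        rw [← hi, ← hj]
        exact (Commute.zpow_zpow (Commute.refl x) i j)
      rw [this]; group
  have e := MulAction.selfEquivSigmaOrbits N Y
  have : Fintype (Quotient (MulAction.orbitRel N Y)) := Fintype.ofFinite _
  have h1 : ∀ y : Y, Nat.card (MulAction.orbit N y) = (zpowers x).relIndex N := by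
    intro y
    rw [Nat.card_congr (MulAction.orbitEquivQuotientStabilizer N y), hstab]
    rfl
  have h2 : Nat.card Y = Nat.card S - 1 := by
    have h3 : Nat.card Y + 1 = Nat.card S := by
      have h4 : Nat.card Y = ((S : Set G) \ {1}).ncard := by
        rw [← Nat.card_coe_set_eq]
        rfl
      rw [h4, Set.ncard_sdiff_singleton_add_one (one_mem S) (Set.toFinite _)]
      exact (Nat.card_coe_set_eq _).symm
    omega
  rw [← h2, Nat.card_congr e, Nat.card_sigma]
  apply Finset.dvd_sum
  intro ω _
  rw [h1]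

/-- An element of `N_G(T)` of order dividing a power of `m` lies in `T`. -/
theorem mem_of_pow (h : Hyp G m k x) {g : G} (hg : g ∈ normalizer (zpowers x : Set G))
    (hgm : orderOf g ∣ m) : g ∈ zpowers x := by
  -- the order of `⟨g⟩ T`
  have h1 : Nat.card (zpowers g ⊔ zpowers x : Subgroup G) ∣ m * m := by
    have h2 := Subgroup.card_mul_index ((zpowers x).subgroupOf (zpowers g ⊔ zpowers x))
    have h3 : (zpowers x).relIndex (zpowers g ⊔ zpowers x) ∣ m := by
      have hle : zpowers g ≤ normalizer (zpowers x : Set G) := by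
        rw [zpowers_le]; exact hg
      have h4 : (zpowers x).relIndex (zpowers g ⊔ zpowers x) = (zpowers x).relIndex (zpowers g) :=
        Cfsg.Agent.OddOrderLocal.ComplAux.relIndex_sup_of_le_normalizer hle
      rw [h4]
      refine (relIndex_dvd_card _ _).trans ?_
      rw [Nat.card_zpowers]
      exact hgm
    rw [← h2, Nat.card_congr (subgroupOfEquivOfLe le_sup_right).toEquiv, card_zpowers h]
    exact Nat.mul_dvd_mul_left m h3
  have h2 : Nat.card (zpowers g ⊔ zpowers x : Subgroup G) ∣ m := by
    have h3 : Nat.card (zpowers g ⊔ zpowers x : Subgroup G) ∣ m * k := by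
      rw [← h.card]
      exact card_subgroup_dvd_card _
    have h4 : (Nat.card (zpowers g ⊔ zpowers x : Subgroup G)).Coprime k :=
      Nat.Coprime.coprime_dvd_left h1 (h.cop.mul_left h.cop)
    exact h4.dvd_of_dvd_mul_right h3
  have h3 : zpowers x = zpowers g ⊔ zpowers x := by
    apply Subgroup.eq_of_le_of_card_ge le_sup_right
    rw [card_zpowers h]
    exact Nat.le_of_dvd (by have := h.two; omega) h2
  rw [h3]
  exact mem_sup_left (mem_zpowers g)

/-- `|G : N_G(T)| ≡ 1 mod m`. -/
theorem index_modEq (h : Hyp G m k x) :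
    m ∣ (normalizer (zpowers x : Set G)).index - 1 := by
  set N := normalizer (zpowers x : Set G) with hN
  let Y := {c : G ⧸ N // c ≠ (1 : G)}
  let _act : MulAction (zpowers x) Y :=
    { smul := fun a y => ⟨(a : G) • y.1, fun hc => y.2 (by
        have h1 : y.1 = (a : G)⁻¹ • ((a : G) • y.1) := by rw [inv_smul_smul]
        rw [h1, hc]
        change ((((a : G)⁻¹ * 1 : G)) : G ⧸ N) = ((1 : G) : G ⧸ N)
        rw [QuotientGroup.eq]
        have h2 : ((a : G)⁻¹ * 1)⁻¹ * 1 = (a : G) := by group
        rw [h2]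
        exact le_normalizer a.2)⟩
      one_smul := fun y => by
        apply Subtype.ext
        change ((1 : zpowers x) : G) • y.1 = y.1
        simp
      mul_smul := fun a b y => by
        apply Subtype.ext
        change ((a * b : zpowers x) : G) • y.1 = (a : G) • ((b : G) • y.1)
        rw [Subgroup.coe_mul, mul_smul] }
  have h1 : Nat.card (zpowers x) ∣ Nat.card Y := by
    apply card_dvd_of_free
    rintro a ⟨c, hc⟩ hay
    by_contra ha1
    have h2 : (a : G) • c = c := congrArg Subtype.val hay
    obtain ⟨g, rfl⟩ := QuotientGroup.mk_surjective c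
    have h3 : g⁻¹ * (a : G) * g ∈ N := by
      have h4 : ((((a : G) * g : G)) : G ⧸ N) = (g : G ⧸ N) := h2
      rw [eq_comm, QuotientGroup.eq] at h4
      convert h4 using 1
      group
    have ha : (a : G) ≠ 1 := fun hh => ha1 (Subtype.ext hh)
    have h4 : g⁻¹ * (a : G) * g ∈ zpowers x := by
      apply mem_of_pow h h3
      have h5 : orderOf (g⁻¹ * (a : G) * g) = orderOf (a : G) := by
        have := orderOf_injective (MulAut.conj g⁻¹ : G →* G) (MulAut.conj g⁻¹).injective (a : G)
        rw [← this]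
        simp
      rw [h5, ← card_zpowers h, Subgroup.orderOf_coe]
      exact orderOf_dvd_natCard a
    have h5 : g⁻¹ * (a : G) * g ≠ 1 := by
      intro h6
      apply ha
      calc (a : G) = g * (g⁻¹ * (a : G) * g) * g⁻¹ := by group
        _ = 1 := by rw [h6]; group
    -- `T` and `g⁻¹ T g` meet nontrivially
    apply hc
    rw [eq_comm, QuotientGroup.eq]
    have h6 : (1 : G)⁻¹ * g = g := by group
    rw [h6]
    have h7 : zpowers x ≤ (zpowers x).map (MulAut.conj g : G →* G) := by
      intro u hu
      refine ⟨g⁻¹ * u * g, ?_, by simp [MulAut.conj_apply]; group⟩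
      apply mem_of_commute h h4 h5
      have h8 : u * (a : G) = (a : G) * u := by
        obtain ⟨i, hi⟩ := mem_zpowers_iff.mp hu
        obtain ⟨j, hj⟩ := mem_zpowers_iff.mp a.2
        rw [← hi, ← hj]
        exact (Commute.zpow_zpow (Commute.refl x) i j)
      calc g⁻¹ * u * g * (g⁻¹ * (a : G) * g) = g⁻¹ * (u * (a : G)) * g := by group
        _ = g⁻¹ * ((a : G) * u) * g := by rw [h8]
        _ = g⁻¹ * (a : G) * g * (g⁻¹ * u * g) := by group
    have h8 : zpowers x = (zpowers x).map (MulAut.conj g : G →* G) := by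
      apply Subgroup.eq_of_le_of_card_ge h7
      rw [Nat.card_congr ((zpowers x).equivMapOfInjective _
        (MulAut.conj g).injective).symm.toEquiv]
    rw [hN, mem_normalizer_iff_map_conj_eq]
    exact h8.symm
  have h2 : Nat.card Y = N.index - 1 := by
    have h3 : Nat.card Y + 1 = N.index := by
      have h4 : Nat.card Y = ((Set.univ : Set (G ⧸ N)) \ {((1 : G) : G ⧸ N)}).ncard := by
        rw [← Nat.card_coe_set_eq]
        apply Nat.card_congr
        exact Equiv.subtypeEquivRight (fun c => by simp)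
      rw [h4, Set.ncard_sdiff_singleton_add_one (Set.mem_univ _) (Set.toFinite _),
        Set.ncard_univ]
      rfl
    omega
  rw [← h2, ← card_zpowers h]
  exact h1

/-- The order of `N_G(T)`. -/
theorem card_normalizer (h : Hyp G m k x) {n : ℕ} (hn : n < m) (hkn : k ≡ n [MOD m]) (hn1 : 1 ≤ n) :
    (zpowers x).relIndex (normalizer (zpowers x : Set G)) = n ∧
      Nat.card (normalizer (zpowers x : Set G)) = m * n := by
  set N := normalizer (zpowers x : Set G) with hN
  set n' := (zpowers x).relIndex N with hn'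
  have hcardN : Nat.card N = m * n' := by
    have h1 := Subgroup.card_mul_index ((zpowers x).subgroupOf N)
    rw [Nat.card_congr (subgroupOfEquivOfLe le_normalizer).toEquiv, card_zpowers h] at h1
    exact h1.symm
  have hpos : 0 < N.index := Nat.pos_of_ne_zero Subgroup.index_ne_zero_of_finite
  have hm := h.two
  have h1 : k = n' * N.index := by
    have h2 := N.card_mul_index
    rw [hcardN, h.card, Nat.mul_assoc] at h2
    exact (Nat.eq_of_mul_eq_mul_left (by omega) h2).symm
  have h3 : k ≡ n' [MOD m] := by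
    have h4 : N.index ≡ 1 [MOD m] := by
      have h5 := index_modEq h
      exact ((Nat.modEq_iff_dvd' hpos).mpr h5).symm
    rw [h1]
    simpa using Nat.ModEq.mul_left n' h4
  have h4 : n' ∣ m - 1 := by
    have := index_dvd h (le_refl (zpowers x))
    rwa [card_zpowers h] at this
  have h5 : n' < m := by
    have := Nat.le_of_dvd (by omega) h4
    omega
  have h6 : n' = n := by
    have h7 : n' ≡ n [MOD m] := h3.symm.trans hkn
    rw [Nat.ModEq, Nat.mod_eq_of_lt h5, Nat.mod_eq_of_lt hn] at h7
    exact h7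
  exact ⟨h6, by rw [hcardN, h6]⟩

/-- Every prime factor `r` of `m` satisfies `r ≡ 1 mod n`. -/
theorem dvd_sub_one (h : Hyp G m k x) {n : ℕ} (hn : n < m) (hkn : k ≡ n [MOD m]) (hn1 : 1 ≤ n)
    {r : ℕ} (hr : r.Prime) (hrm : r ∣ m) : n ∣ r - 1 := by
  have : Fact r.Prime := ⟨hr⟩
  obtain ⟨c, hc⟩ := hrm
  have hc0 : c ≠ 0 := by
    rintro rfl
    have := h.two
    omega
  have h1 : orderOf (x ^ c) = r := by
    rw [orderOf_pow' x hc0, h.ord, hc, Nat.gcd_eq_right (Dvd.intro_left _ rfl)]
    exact Nat.mul_div_cancel _ (Nat.pos_of_ne_zero hc0)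
  have h2 := index_dvd h (S := zpowers (x ^ c)) (by
    rw [zpowers_le]
    exact pow_mem (mem_zpowers x) c)
  rw [(card_normalizer h hn hkn hn1).1, Nat.card_zpowers, h1] at h2
  exact h2

/-- A normal subgroup of order prime to `m` is nilpotent. -/
theorem nilpotent_of_coprime (h : Hyp G m k x) {N : Subgroup G} (hNn : N.Normal)
    (hN : (Nat.card N).Coprime m) : Group.IsNilpotent N := by
  by_cases hN1 : N = ⊥
  · subst hN1
    have : Subsingleton (⊥ : Subgroup G) := inferInstance
    infer_instance
  have hx1 : x ≠ 1 := by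
    rintro rfl
    have h1 := h.ord
    rw [orderOf_one] at h1
    have := h.two
    omega
  obtain ⟨r, j, hr, hrm, hj⟩ := exists_prime_pow h (mem_zpowers x) hx1
  have : Fact r.Prime := ⟨hr⟩
  set y := x ^ j with hy
  have hfix : ∀ z ∈ N, y * z = z * y → z = 1 := by
    intro z hz hyz
    by_contra hz1
    have h1 : orderOf z ≠ 1 := fun h => hz1 (orderOf_eq_one_iff.mp h)
    obtain ⟨s, hs, hsz⟩ := Nat.exists_prime_and_dvd h1
    have hsN : s ∣ Nat.card N := by
      have := orderOf_dvd_natCard (⟨z, hz⟩ : N)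
      rw [Subgroup.orderOf_mk] at this
      exact hsz.trans this
    have hsk : s ∣ k := by
      have h2 : s ∣ m * k := by
        rw [← h.card]
        exact hsN.trans (card_subgroup_dvd_card N)
      rcases hs.dvd_mul.mp h2 with h3 | h3
      · have h4 := Nat.dvd_gcd hsN h3
        rw [hN] at h4
        exact absurd (Nat.dvd_one.mp h4) hs.one_lt.ne'
      · exact h3
    obtain ⟨i, hi⟩ := hsz
    have hi0 : i ≠ 0 := by
      rintro rfl
      exact (orderOf_pos z).ne' (by simpa using hi)
    have h2 : orderOf (z ^ i) = s := by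
      rw [orderOf_pow' z hi0, hi, Nat.gcd_eq_right (Dvd.intro_left _ rfl)]
      exact Nat.mul_div_cancel _ (Nat.pos_of_ne_zero hi0)
    have hrs : r ≠ s := by
      rintro rfl
      have h3 := Nat.dvd_gcd hrm hsk
      rw [h.cop] at h3
      exact hr.one_lt.ne' (Nat.dvd_one.mp h3)
    have h3 := eq_one_of_commute hr hs hrs (h.nonadj r s hr hs hrm hsk) (x := y) (y := z ^ i)
      ⟨1, by rw [hj, pow_one]⟩ ⟨1, by rw [h2, pow_one]⟩ (Commute.pow_right hyz i) (by
        intro h4
        rw [h4, orderOf_one] at h2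
        exact hs.one_lt.ne h2)
    rw [h3, orderOf_one] at hj
    exact hr.one_lt.ne hj
  let φ : MulAut N := MulAut.conjNormal y
  have hφ : ∀ z : N, φ z = z → z = 1 := by
    intro z hz
    have h1 : y * (z : G) * y⁻¹ = z := by
      rw [← MulAut.conjNormal_apply]
      exact congrArg Subtype.val hz
    apply Subtype.ext
    apply hfix z z.2
    calc y * (z : G) = (y * z * y⁻¹) * y := by group
      _ = z * y := by rw [h1]
  refine Cfsg.Agent.S0033.result φ ?_ r hr ?_
  · intro z hz
    exact hφ z hz
  · apply orderOf_eq_prime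
    · rw [← map_pow, ← hj, pow_orderOf_eq_one, map_one]
    · intro h1
      apply hN1
      rw [eq_bot_iff]
      intro z hz
      have := hφ ⟨z, hz⟩ (by rw [h1]; rfl)
      exact Subgroup.mem_bot.mpr (congrArg Subtype.val this)

end Cfsg.Agent.H363.IsoHall
end

-- part: H363/IsoHallMain
section
/-!
# Isolated cyclic Hall subgroups: simplicity

`simple_or`: `G` of order `m * k` with an isolated cyclic Hall subgroup of order `m`,
`k ≡ n mod m`, `n` prime, `n < m`, `n < k`: then `G` is simple or has a nontrivial normal abelian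
`t`-subgroup `N`, `t ∣ k`, with `m ∣ |N| - 1`.
-/

set_option autoImplicit false

namespace Cfsg.Agent.H363.IsoHall

open Subgroup Cfsg.Agent.H363.Frat

variable {G : Type*} [Group G] [Finite G] {m k : ℕ} {x : G}

/-- `N` normal, `c ∣ |G : N|`, the primes of `c` are not adjacent to `s`: `c ∣ |N|_s - 1`. -/
theorem dvd_of_normal {s : ℕ} (hs : s.Prime) (N : Subgroup G) [N.Normal] {c : ℕ}
    (hc : c ∣ N.index) (hadj : ∀ r, r.Prime → r ∣ c → r ≠ s ∧ NonAdj G r s) :
    c ∣ s ^ (Nat.card N).factorization s - 1 := by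
  rw [Nat.dvd_iff_prime_pow_dvd_dvd]
  intro r j hr hrj
  rcases Nat.eq_zero_or_pos j with hj | hj
  · rw [hj, pow_zero]
    exact one_dvd _
  have hrc : r ∣ c := (dvd_pow_self r hj.ne').trans hrj
  exact pow_dvd_of_normal hr hs (hadj r hr hrc).1 (hadj r hr hrc).2 N (hrj.trans hc)

omit [Finite G] in
/-- Conjugates. -/
theorem conj_hyp (h : Hyp G m k x) (g : G) : Hyp G m k (g * x * g⁻¹) where
  ord := by
    have := orderOf_injective (MulAut.conj g : G →* G) (MulAut.conj g).injective x
    rw [← h.ord, ← this]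
    simp
  card := h.card
  cop := h.cop
  two := h.two
  nonadj := h.nonadj

/-- Every `r`-subgroup, `r ∣ m`, lies in a conjugate of `T`. -/
theorem exists_le (h : Hyp G m k x) {r : ℕ} (hr : r.Prime) (hrm : r ∣ m) {S : Subgroup G}
    (hS : IsPGroup r S) : ∃ y, Hyp G m k y ∧ S ≤ zpowers y := by
  have : Fact r.Prime := ⟨hr⟩
  obtain ⟨Q, hQ⟩ := hS.exists_le_sylow
  let R : Sylow r (zpowers x) := default
  have hk0 : k ≠ 0 := (k_pos h).ne'
  have hm0 : m ≠ 0 := by have := h.two; omega
  have hcard : Nat.card ((R : Subgroup (zpowers x)).map (zpowers x).subtype)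
      = r ^ (Nat.card G).factorization r := by
    rw [Nat.card_congr ((R : Subgroup (zpowers x)).equivMapOfInjective _
      (zpowers x).subtype_injective).symm.toEquiv, R.card_eq_multiplicity, card_zpowers h,
      h.card, Nat.factorization_mul hm0 hk0, Finsupp.add_apply]
    have h1 : k.factorization r = 0 := by
      apply Nat.factorization_eq_zero_of_not_dvd
      intro h2
      have h3 := Nat.dvd_gcd hrm h2
      rw [h.cop] at h3
      exact hr.one_lt.ne' (Nat.dvd_one.mp h3)
    rw [h1, Nat.add_zero]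
  let R' : Sylow r G := Sylow.ofCard _ hcard
  obtain ⟨g, hg⟩ := MulAction.exists_smul_eq G R' Q
  refine ⟨g * x * g⁻¹, conj_hyp h g, hQ.trans ?_⟩
  rw [← hg]
  intro y hy
  rw [Sylow.coe_subgroup_smul] at hy
  obtain ⟨z, hz, rfl⟩ := hy
  obtain ⟨w, _, rfl⟩ := hz
  obtain ⟨i, hi⟩ := mem_zpowers_iff.mp w.2
  rw [mem_zpowers_iff]
  refine ⟨i, ?_⟩
  rw [conj_zpow, hi]
  rfl

/-- The main case division for a minimal normal subgroup of order not prime to `m`. -/
theorem eq_top_of_minimal (h : Hyp G m k x) {n : ℕ} (hn : n.Prime) (hnm : n < m)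
    (hkn : k ≡ n [MOD m]) (hk : n < k) {N : Subgroup G} (hNn : N.Normal)
    (hmin : ∀ L : Subgroup G, L.Normal → L ≤ N → L = ⊥ ∨ L = N)
    (hcop : ¬ (Nat.card N).Coprime m) : N = ⊤ := by
  obtain ⟨r, hr, hrd⟩ := Nat.exists_prime_and_dvd (fun h => hcop (Nat.coprime_iff_gcd_eq_one.mpr h))
  have hrN := hrd.trans (Nat.gcd_dvd_left _ _)
  have hrm := hrd.trans (Nat.gcd_dvd_right _ _)
  have : Fact r.Prime := ⟨hr⟩
  let P : Sylow r N := default
  set S : Subgroup G := (P : Subgroup N).map N.subtype with hSdef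
  have hSN : S ≤ N := by
    rintro _ ⟨z, _, rfl⟩
    exact z.2
  have hSp : IsPGroup r S := P.2.map _
  have hcardS : Nat.card S = Nat.card (P : Subgroup N) :=
    Nat.card_congr ((P : Subgroup N).equivMapOfInjective N.subtype
      N.subtype_injective).symm.toEquiv
  have hP1 : r ∣ Nat.card (P : Subgroup N) := by
    rw [P.card_eq_multiplicity]
    exact dvd_pow_self r (by
      have := (hr.dvd_iff_one_le_factorization Nat.card_pos.ne').mp hrN
      omega)
  have hS1 : S ≠ ⊥ := by
    intro hb
    rw [← hcardS, hb, Subgroup.card_bot] at hP1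
    exact hr.one_lt.ne' (Nat.dvd_one.mp hP1)
  obtain ⟨y, hy, hSy⟩ := exists_le h hr hrm hSp
  clear h
  have hnorm := normalizer_eq hy hSy hS1
  set M := normalizer (zpowers y : Set G) with hM
  have hfrat : M ⊔ N = ⊤ := by
    rw [← hnorm]
    exact Sylow.normalizer_sup_eq_top P
  have hidx : N.relIndex M = N.index := by
    rw [← relIndex_sup_right, hfrat, relIndex_top_right]
  obtain ⟨hrel, hcardM⟩ := card_normalizer hy hnm hkn hn.one_lt.le
  rw [← hM] at hrel hcardM
  have hTM : zpowers y ≤ M := le_normalizer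
  by_cases hA : N ⊓ M ≤ zpowers y
  · -- Burnside
    exfalso
    have hPN : normalizer ((P : Subgroup N) : Set N) ≤ centralizer ((P : Subgroup N) : Set N) := by
      intro a ha
      have h1 : (a : G) ∈ normalizer (S : Set G) := by
        rw [mem_normalizer_iff]
        rw [mem_normalizer_iff] at ha
        intro u
        constructor
        · rintro ⟨v, hv, rfl⟩
          exact ⟨a * v * a⁻¹, (ha v).mp hv, rfl⟩
        · rintro ⟨v, hv, hvu⟩
          have hu : u = (a : G)⁻¹ * v * a := by
            have h2 : (v : G) = a * u * (a : G)⁻¹ := hvu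
            rw [h2]; group
          refine ⟨a⁻¹ * v * a, ?_, ?_⟩
          · rw [SetLike.mem_coe, ha]
            have h3 : a * (a⁻¹ * v * a) * a⁻¹ = v := by group
            rw [h3]
            exact hv
          · rw [hu]; rfl
      have h2 : (a : G) ∈ zpowers y := hA ⟨a.2, by rw [← hnorm]; exact h1⟩
      rw [mem_centralizer_iff]
      intro u hu
      apply Subtype.ext
      have h3 : (u : G) ∈ zpowers y := hSy ⟨u, hu, rfl⟩
      obtain ⟨i, hi⟩ := mem_zpowers_iff.mp h2
      obtain ⟨j, hj⟩ := mem_zpowers_iff.mp h3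
      rw [Subgroup.coe_mul, Subgroup.coe_mul, ← hi, ← hj]
      exact (Commute.zpow_zpow (Commute.refl y) j i)
    have hcompl := MonoidHom.ker_transferSylow_isComplement' P hPN
    set K : Subgroup N := (MonoidHom.transferSylow P hPN).ker with hK
    have hKc : Nat.card K * Nat.card (P : Subgroup N) = Nat.card N := hcompl.card_mul_card
    have hKidx : K.index = Nat.card (P : Subgroup N) := by
      have h1 := K.card_mul_index
      rw [← hKc] at h1
      exact Nat.eq_of_mul_eq_mul_left Nat.card_pos h1
    have hKcop : (Nat.card K).Coprime K.index := by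
      have h1 : ¬ r ∣ Nat.card K := by
        intro h2
        have h3 := P.not_dvd_index
        have h4 := (P : Subgroup N).card_mul_index
        rw [← hKc, Nat.mul_comm] at h4
        have h5 : (P : Subgroup N).index = Nat.card K := Nat.eq_of_mul_eq_mul_right Nat.card_pos h4
        exact h3 (h5 ▸ h2)
      rw [hKidx, P.card_eq_multiplicity]
      exact Nat.Coprime.pow_right _ ((Nat.Prime.coprime_iff_not_dvd hr).mpr h1).symm
    have hchar : ∀ z : N, z ∈ K ↔ z ^ Nat.card K = 1 := by
      intro z
      constructor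
      · intro hz
        have := pow_card_eq_one' (x := (⟨z, hz⟩ : K))
        exact congrArg Subtype.val this
      · intro hz
        have h1 : (QuotientGroup.mk z : N ⧸ K) = 1 := by
          rw [← orderOf_eq_one_iff]
          apply Nat.eq_one_of_dvd_coprimes hKcop
          · apply orderOf_dvd_of_pow_eq_one
            rw [← QuotientGroup.mk_pow, hz, QuotientGroup.mk_one]
          · exact orderOf_dvd_natCard _
        exact (QuotientGroup.eq_one_iff z).mp h1
    have hKn : (K.map N.subtype).Normal := by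
      constructor
      rintro _ ⟨z, hz, rfl⟩ g
      refine ⟨⟨g * z * g⁻¹, hNn.conj_mem z z.2 g⟩, ?_, rfl⟩
      rw [SetLike.mem_coe, hchar]
      apply Subtype.ext
      have h1 : (z : G) ^ Nat.card K = 1 := by
        have := (hchar z).mp hz
        exact congrArg Subtype.val this
      simp only [SubgroupClass.coe_pow, Subgroup.coe_one]
      rw [conj_pow, h1]; group
    have hKN : K.map N.subtype ≤ N := by
      rintro _ ⟨z, _, rfl⟩
      exact z.2
    have hcK : Nat.card (K.map N.subtype) = Nat.card K :=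
      Nat.card_congr (K.equivMapOfInjective N.subtype N.subtype_injective).symm.toEquiv
    rcases hmin _ hKn hKN with hb | hb
    · -- `K = 1`, `N = S`
      rw [hb, Subgroup.card_bot] at hcK
      rw [← hcK, Nat.one_mul] at hKc
      have hNS : S = N := by
        apply Subgroup.eq_of_le_of_card_ge hSN
        rw [hcardS, hKc]
      have h1 : M = ⊤ := by
        rw [← hnorm, hNS]
        exact normalizer_eq_top_iff.mpr hNn
      rw [h1, Subgroup.card_top, hy.card] at hcardM
      have h2 := Nat.eq_of_mul_eq_mul_left (by have := hy.two; omega) hcardM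
      omega
    · rw [hb] at hcK
      rw [← hcK] at hKc
      have h1 : Nat.card (P : Subgroup N) = 1 := by
        have h2 : Nat.card N * Nat.card (P : Subgroup N) = Nat.card N * 1 := by
          rw [hKc, Nat.mul_one]
        exact Nat.eq_of_mul_eq_mul_left Nat.card_pos h2
      rw [h1] at hP1
      exact hr.one_lt.ne' (Nat.dvd_one.mp hP1)
  · -- `N` covers `N_G(T) / T`
    have hsup : (N ⊓ M) ⊔ zpowers y = M := by
      have hle : (N ⊓ M) ⊔ zpowers y ≤ M := sup_le inf_le_right hTM
      have h1 := relIndex_mul_relIndex (zpowers y) ((N ⊓ M) ⊔ zpowers y) M le_sup_right hle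
      rw [hrel] at h1
      have h2 : (zpowers y).relIndex ((N ⊓ M) ⊔ zpowers y) ∣ n := Dvd.intro _ h1
      rcases (Nat.dvd_prime hn).mp h2 with h3 | h3
      · exfalso
        apply hA
        rw [relIndex_eq_one] at h3
        exact le_sup_left.trans h3
      · rw [h3] at h1
        have h4 : ((N ⊓ M) ⊔ zpowers y).relIndex M = 1 := by
          have h5 : n * ((N ⊓ M) ⊔ zpowers y).relIndex M = n * 1 := by rw [h1, Nat.mul_one]
          exact Nat.eq_of_mul_eq_mul_left hn.pos h5
        rw [relIndex_eq_one] at h4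
        exact le_antisymm hle h4
    have h1 : (zpowers y).relIndex (N ⊓ M) = n := by
      rw [← Cfsg.Agent.OddOrderLocal.ComplAux.relIndex_sup_of_le_normalizer
        (K := N ⊓ M) (S := zpowers y) inf_le_right, hsup, hrel]
    -- the index of `N` divides `m`
    have hcm : N.index ∣ m := by
      have h2 : N.relIndex M * Nat.card (N ⊓ M : Subgroup G) = Nat.card M := by
        have h3 := Subgroup.card_mul_index (N.subgroupOf M)
        rw [← h3, Nat.mul_comm]
        congr 1
        rw [← inf_subgroupOf_right]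
        exact Nat.card_congr (subgroupOfEquivOfLe inf_le_right).symm.toEquiv
      have h3 : Nat.card (N ⊓ M : Subgroup G) = Nat.card ((zpowers y).subgroupOf (N ⊓ M)) * n := by
        rw [← h1]
        exact (Subgroup.card_mul_index _).symm
      rw [hidx, hcardM, h3] at h2
      have h4 : N.index * Nat.card ((zpowers y).subgroupOf (N ⊓ M)) = m := by
        apply Nat.eq_of_mul_eq_mul_right hn.pos
        rw [← h2, Nat.mul_assoc]
      exact Dvd.intro _ h4
    have hcpos : 0 < N.index := Nat.pos_of_ne_zero Subgroup.index_ne_zero_of_finite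
    have hm2 := hy.two
    have hk0 := k_pos hy
    -- all the prime power parts of `k` are `≡ 1` modulo the index
    have hmod : k ≡ 1 [MOD N.index] := by
      have hpart : ∀ s ∈ k.primeFactors, s ^ k.factorization s ≡ 1 [MOD N.index] := by
        intro s hs
        have hsp := Nat.prime_of_mem_primeFactors hs
        have hsk := Nat.dvd_of_mem_primeFactors hs
        have hsm : ¬ s ∣ m := by
          intro h2
          have h3 := Nat.dvd_gcd h2 hsk
          rw [hy.cop] at h3
          exact hsp.one_lt.ne' (Nat.dvd_one.mp h3)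
        have h2 := dvd_of_normal hsp N (dvd_refl N.index) (by
          intro r' hr' hrc
          have hrm' := hrc.trans hcm
          exact ⟨by rintro rfl; exact hsm hrm', hy.nonadj r' s hr' hsp hrm' hsk⟩)
        have h3 : (Nat.card N).factorization s = k.factorization s := by
          have h4 := N.card_mul_index
          have h5 : (Nat.card N * N.index).factorization s = (m * k).factorization s := by
            rw [h4, hy.card]
          rw [Nat.factorization_mul Nat.card_pos.ne' hcpos.ne',
            Nat.factorization_mul (by omega) hk0.ne', Finsupp.add_apply, Finsupp.add_apply,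
            Nat.factorization_eq_zero_of_not_dvd hsm,
            Nat.factorization_eq_zero_of_not_dvd (fun h6 => hsm (h6.trans hcm))] at h5
          omega
        rw [h3] at h2
        exact ((Nat.modEq_iff_dvd' (Nat.one_le_pow _ _ hsp.pos)).mpr h2).symm
      have h2 : ∏ s ∈ k.primeFactors, s ^ k.factorization s ≡ ∏ s ∈ k.primeFactors, 1
          [MOD N.index] := by
        have key : ∀ F : Finset ℕ, (∀ s ∈ F, s ^ k.factorization s ≡ 1 [MOD N.index]) →
            ∏ s ∈ F, s ^ k.factorization s ≡ ∏ s ∈ F, 1 [MOD N.index] := by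
          intro F
          induction F using Finset.induction_on with
          | empty => intro _; rfl
          | insert a F ha ih =>
            intro hF
            rw [Finset.prod_insert ha, Finset.prod_insert ha]
            exact (hF a (Finset.mem_insert_self a F)).mul
              (ih fun s hs => hF s (Finset.mem_insert_of_mem hs))
        exact key _ hpart
      rw [Finset.prod_const_one] at h2
      have h3 := Nat.prod_factorization_pow_eq_self hk0.ne'
      rw [Finsupp.prod, Nat.support_factorization] at h3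
      rwa [h3] at h2
    have hmod2 : n ≡ 1 [MOD N.index] := (hkn.of_dvd hcm).symm.trans hmod
    have hdvd : N.index ∣ n - 1 := (Nat.modEq_iff_dvd' hn.one_lt.le).mp hmod2.symm
    rw [← index_eq_one]
    by_contra hne
    obtain ⟨t, ht, htd⟩ := Nat.exists_prime_and_dvd hne
    have h2 := dvd_sub_one hy hnm hkn hn.one_lt.le ht (htd.trans hcm)
    have h3 := Nat.le_of_dvd (by have := ht.two_le; omega) h2
    have h4 := Nat.le_of_dvd (by have := hn.two_le; omega) (htd.trans hdvd)
    have := ht.two_le
    omega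

/-- **Main theorem.** -/
theorem simple_or (h : Hyp G m k x) {n : ℕ} (hn : n.Prime) (hnm : n < m)
    (hkn : k ≡ n [MOD m]) (hk : n < k) :
    IsSimpleGroup G ∨ ∃ (t : ℕ) (N : Subgroup G), t.Prime ∧ t ∣ k ∧ N.Normal ∧ N ≠ ⊥ ∧
      IsPGroup t N ∧ (∀ a ∈ N, ∀ b ∈ N, Commute a b) ∧ (∀ a ∈ N, a ^ t = 1) ∧
      m ∣ Nat.card N - 1 := by
  have hm2 := h.two
  have hk0 := k_pos h
  have hnt : Nontrivial G := by
    rw [← Finite.one_lt_card_iff_nontrivial, h.card]
    nlinarith
  by_cases hex : ∃ N : Subgroup G, N.Normal ∧ N ≠ ⊥ ∧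
      (∀ L : Subgroup G, L.Normal → L ≤ N → L = ⊥ ∨ L = N) ∧ (Nat.card N).Coprime m
  · right
    obtain ⟨N, hNn, hN1, hmin, hcop⟩ := hex
    have hnil := nilpotent_of_coprime h hNn hcop
    have hNnt : Nontrivial N := by
      rw [Subgroup.nontrivial_iff_ne_bot]; exact hN1
    have hcomm : ∀ a ∈ N, ∀ b ∈ N, Commute a b := by
      have hcn : ((center N).map N.subtype).Normal := inferInstance
      have hle : (center N).map N.subtype ≤ N := by
        rintro _ ⟨z, _, rfl⟩
        exact z.2
      rcases hmin _ hcn hle with hb | hb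
      · exfalso
        have h1 := Cfsg.Agent.Lib.NormalAbelian.normal_inf_center_ne_bot (⊤ : Subgroup N) (by
          intro h2
          have h3 := Subgroup.card_top (G := N)
          rw [h2, Subgroup.card_bot] at h3
          exact hN1 (Subgroup.card_eq_one.mp h3.symm))
        rw [top_inf_eq] at h1
        apply h1
        rw [eq_bot_iff]
        intro z hz
        have h2 : (z : G) ∈ (center N).map N.subtype := ⟨z, hz, rfl⟩
        rw [hb] at h2
        exact Subgroup.mem_bot.mpr (Subtype.ext (Subgroup.mem_bot.mp h2))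
      · intro a ha b hb'
        have h1 : a ∈ (center N).map N.subtype := by rw [hb]; exact ha
        obtain ⟨z, hz, rfl⟩ := h1
        have h2 := mem_center_iff.mp hz ⟨b, hb'⟩
        exact (congrArg Subtype.val h2).symm
    obtain ⟨t, ht, hNt, hexp⟩ :=
      Cfsg.Agent.Lib.MinNormalNonabelian.abelian_structure N hN1 hmin hcomm
    have : Fact t.Prime := ⟨ht⟩
    obtain ⟨a, ha⟩ := (IsPGroup.iff_card).mp hNt
    have ha0 : a ≠ 0 := by
      rintro rfl
      rw [pow_zero] at ha
      exact hN1 (Subgroup.card_eq_one.mp ha)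
    have htk : t ∣ k := by
      have h1 : t ∣ Nat.card N := by rw [ha]; exact dvd_pow_self t ha0
      have h2 : t ∣ m * k := by rw [← h.card]; exact h1.trans (card_subgroup_dvd_card N)
      rcases ht.dvd_mul.mp h2 with h3 | h3
      · have h4 := Nat.dvd_gcd h1 h3
        rw [hcop] at h4
        exact absurd (Nat.dvd_one.mp h4) ht.one_lt.ne'
      · exact h3
    refine ⟨t, N, ht, htk, hNn, hN1, hNt, hcomm, hexp, ?_⟩
    have h1 : m ∣ N.index := by
      have h2 : m ∣ Nat.card N * N.index := by
        rw [N.card_mul_index, h.card]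
        exact dvd_mul_right m k
      exact (hcop.symm).dvd_of_dvd_mul_left h2
    have h2 := dvd_of_normal ht N h1 (by
      intro r hr hrm
      refine ⟨?_, h.nonadj r t hr ht hrm htk⟩
      rintro rfl
      have h3 := Nat.dvd_gcd hrm htk
      rw [h.cop] at h3
      exact hr.one_lt.ne' (Nat.dvd_one.mp h3))
    have h3 : t ^ (Nat.card N).factorization t = Nat.card N := by
      rw [ha, ht.factorization_pow, Finsupp.single_eq_same]
    rwa [h3] at h2
  · left
    push Not at hex
    obtain ⟨N, hNn, hN1, hmin⟩ :=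
      Cfsg.Agent.Lib.SubnormalJoin.exists_minimal_normal G
    have htop := eq_top_of_minimal h hn hnm hkn hk hNn hmin (hex N hNn hN1 hmin)
    subst htop
    exact { eq_bot_or_eq_top_of_normal := fun L hL => hmin L hL le_top }

end Cfsg.Agent.H363.IsoHall
end
end

-- part: H363/PslThree
section
prune_inst 0x20100400302200000000000002000000100000000000000000000000080100000000000002000000000280800000002000000000400000000a000000000400000000020000000000000000000000000000000000000000000000000000000000000000000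
set_option linter.all false
open scoped Cfsg.Agent.FastGrp

-- part: H363/ArithL3
section
/-!
# Arithmetic for `PSL₃(q)`
-/

set_option autoImplicit false

namespace Cfsg.Agent.H363.ArithL3

theorem gcd_three (x : ℕ) : Nat.gcd 3 x = 1 ∨ Nat.gcd 3 x = 3 :=
  (Nat.dvd_prime Nat.prime_three).mp (Nat.gcd_dvd_left 3 x)

/-- `t` odd. -/
theorem odd_case {q c m T : ℕ} (hq : 2 ≤ q) (hc : c = Nat.gcd 3 (q - 1))
    (hm : c * m = q ^ 2 + q + 1) (hT : m ∣ T - 1) (hT1 : 1 < T)
    (h : T ∣ q + 1 ∨ T ∣ (q - 1) ^ 2) : False := by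
  obtain ⟨j, rfl⟩ : ∃ j, q = j + 1 := ⟨q - 1, by omega⟩
  rw [Nat.add_sub_cancel] at hc h
  have hmT' : m ≤ T - 1 := Nat.le_of_dvd (by omega) hT
  have hmT : m + 1 ≤ T := by omega
  have hc13 := gcd_three j
  rw [← hc] at hc13
  have hm0 : 0 < m := by
    rcases Nat.eq_zero_or_pos m with h0 | h0
    · rw [h0] at hm; linarith only [hm, _root_.sq_nonneg (↑j + 1 : ℤ)]
    · exact h0
  rcases h with h | h
  · have h1 := Nat.le_of_dvd (by omega) h
    rcases hc13 with h2 | h2
    · rw [h2] at hm; linarith only [hm, hmT, h1, _root_.sq_nonneg (↑j + 1 : ℤ)]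
    · rw [h2] at hm; nlinarith only [hq, hm, hmT, h1]
  · have hj : 1 ≤ j := by omega
    obtain ⟨u, hu⟩ := h
    rcases hc13 with h2 | h2
    · rw [h2] at hm
      have h3 : T ≤ j ^ 2 := Nat.le_of_dvd (by positivity) ⟨u, hu⟩
      linarith only [hm, hmT, h3]
    · have h3j : 3 ∣ j := by
        rw [h2] at hc
        have := Nat.gcd_dvd_right 3 j
        rwa [← hc] at this
      rw [h2] at hm
      have hu3 : u < 3 := by
        by_contra hcon
        have : T * 3 ≤ T * u := Nat.mul_le_mul_left T (by omega)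
        have h5 : 3 * m + 3 ≤ 3 * T := by omega
        linarith only [hm, hmT, hu, this]
      have hu0 : u ≠ 0 := by
        rintro rfl
        have : 0 < j ^ 2 := by positivity
        omega
      rcases (show u = 1 ∨ u = 2 by omega) with h6 | h6
      · rw [h6, mul_one] at hu
        -- T = j^2, m ∣ j^2 - 1
        have h7 : m ∣ (3 * m) - (T - 1) := Nat.dvd_sub (dvd_mul_left m 3) hT
        have h8 : 3 * m - (T - 1) = 3 * j + 4 := by
          rw [hm, ← hu]
          have : (j + 1) ^ 2 + (j + 1) + 1 = (j ^ 2 - 1) + (3 * j + 4) := by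
            have : 0 < j ^ 2 := by positivity
            have e : (j + 1) ^ 2 + (j + 1) + 1 = j ^ 2 + 3 * j + 3 := by ring
            (clear * - hT1 hu e; omega)
          (clear * - this; omega)
        exfalso
        rw [h8] at h7
        have h9 := Nat.le_of_dvd (by omega) h7
        have h10 : j ≤ 9 := by nlinarith only [hm, h9]
        obtain ⟨i, rfl⟩ := h3j
        have : i ≤ 3 := by omega
        interval_cases i
        · omega
        · have : m = 7 := by omega
          subst this
          omega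
        · have : m = 19 := by omega
          subst this
          omega
        · have : m = 37 := by omega
          subst this
          omega
      · rw [h6] at hu
        have h7 : m ∣ (3 * m) - (2 * (T - 1)) :=
          Nat.dvd_sub (dvd_mul_left m 3) (hT.mul_left 2)
        have h8 : 3 * m - 2 * (T - 1) = 3 * j + 5 := by
          rw [hm]
          have e : (j + 1) ^ 2 + (j + 1) + 1 = j ^ 2 + 3 * j + 3 := by ring
          (clear * - hT1 hu e; omega)
        exfalso
        rw [h8] at h7
        have h9 := Nat.le_of_dvd (by omega) h7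
        have h10 : j ≤ 9 := by nlinarith only [hm, h9]
        obtain ⟨i, rfl⟩ := h3j
        have : i ≤ 3 := by omega
        interval_cases i
        · omega
        · omega
        · have h11 : m = 19 := by omega
          subst h11
          omega
        · have h11 : m = 37 := by omega
          subst h11
          omega

/-- `t = 2`. -/
theorem two_case {q c m a : ℕ} (hq : 2 ≤ q) (hc : c = Nat.gcd 3 (q - 1))
    (hm : c * m = q ^ 2 + q + 1) (hT : m ∣ 2 ^ a - 1) (hT1 : 1 < 2 ^ a)
    (h : 2 ^ a ∣ (q + 1) * (q - 1) ^ 2) : q = 5 ∧ a = 5 := by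
  obtain ⟨j, rfl⟩ : ∃ j, q = j + 1 := ⟨q - 1, by omega⟩
  rw [Nat.add_sub_cancel] at hc h
  have hmT : m ≤ 2 ^ a - 1 := Nat.le_of_dvd (by omega) hT
  have hc13 := gcd_three j
  rw [← hc] at hc13
  have hcle : c ≤ 3 := by rcases hc13 with h | h <;> omega
  have hbound : (j + 1) ^ 2 + (j + 1) + 1 ≤ 3 * (2 ^ a - 1) := by
    rw [← hm]; exact Nat.mul_le_mul hcle hmT
  have ha0 : a ≠ 0 := by
    rintro rfl
    simp at hT1
  rcases Nat.even_or_odd j with hj | hj
  · -- `q` odd
    obtain ⟨b, w, hw, hbw⟩ := Nat.exists_eq_two_pow_mul_odd (n := j) (by omega)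
    have hb0 : b ≠ 0 := by
      rintro rfl
      rw [pow_zero, one_mul] at hbw
      rw [hbw] at hj
      exact (Nat.not_even_iff_odd.mpr hw) hj
    rcases Nat.lt_or_ge 1 b with hb1 | hb1
    · -- `q = 1 mod 4`
      have h4 : 4 ∣ j := by
        rw [hbw]
        exact Dvd.dvd.mul_right (by
          have : (4 : ℕ) = 2 ^ 2 := rfl
          rw [this]; exact pow_dvd_pow 2 hb1) w
      obtain ⟨i, hi⟩ := h4
      have h1 : 2 ^ a ∣ 2 ^ (2 * b + 1) := by
        have h2 : (j + 1 + 1) * j ^ 2 = 2 ^ (2 * b + 1) * ((2 * i + 1) * w ^ 2) := by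
          have : j + 1 + 1 = 2 * (2 * i + 1) := by omega
          rw [this, hbw]; ring
        rw [h2] at h
        refine Nat.Coprime.dvd_of_dvd_mul_right ?_ h
        apply Nat.Coprime.pow_left
        apply Nat.Coprime.mul_right
        · rw [Nat.coprime_two_left]; exact ⟨i, rfl⟩
        · rw [Nat.coprime_two_left]; exact hw.pow
      have hab : a ≤ 2 * b + 1 := (Nat.pow_dvd_pow_iff_le_right (by norm_num)).mp h1
      have hw1 : w = 1 := by
        by_contra hne
        have hw3 : 3 ≤ w := by
          obtain ⟨v, hv⟩ := hw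
          omega
        have h5 : 2 ^ a ≤ 2 ^ (2 * b + 1) := Nat.pow_le_pow_right (by norm_num) hab
        have h6 : 9 * 2 ^ (2 * b + 1) ≤ 2 * j ^ 2 := by
          have h7 : 2 * j ^ 2 = w ^ 2 * 2 ^ (2 * b + 1) := by rw [hbw]; ring
          rw [h7]
          exact Nat.mul_le_mul_right _ (by nlinarith only [hw3])
        have h8 : 0 < 2 ^ a := by positivity
        have h9 : 3 * ((j + 1) ^ 2 + (j + 1) + 1) ≤ 9 * 2 ^ a := by (clear * - hbound; omega)
        linarith only [hT1, h5, h6, h9]
      rw [hw1, mul_one] at hbw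
      have hc1 : c = 1 := by
        rw [hc, hbw]
        exact Nat.Coprime.pow_right _ (by norm_num)
      rw [hc1, one_mul] at hm
      have ha2 : a = 2 * b + 1 := by
        by_contra hne
        have h5 : 2 ^ a ≤ 2 ^ (2 * b) := Nat.pow_le_pow_right (by norm_num) (by omega)
        have h6 : 2 ^ (2 * b) = j ^ 2 := by rw [hbw]; ring
        rw [h6] at h5
        have : m ≤ j ^ 2 - 1 := by (clear * - hT1 hmT h5; omega)
        rw [hm] at this
        have e : (j + 1) ^ 2 = j ^ 2 + 2 * j + 1 := by ring
        (clear * - this e; omega)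
      have h7 : 2 ^ a = 2 * j ^ 2 := by rw [ha2, hbw]; ring
      rw [h7, hm] at hT
      obtain ⟨v, hv⟩ := hT
      have e : (j + 1) ^ 2 = j ^ 2 + 2 * j + 1 := by ring
      rw [e] at hv
      have hj4 : 4 ≤ j := by
        rw [hbw]
        calc 4 = 2 ^ 2 := by norm_num
          _ ≤ 2 ^ b := Nat.pow_le_pow_right (by norm_num) hb1
      have hv1 : v = 1 := by
        rcases Nat.lt_or_ge v 2 with h8 | h8
        · have : v ≠ 0 := by
            rintro rfl
            rw [mul_zero] at hv
            linarith only [hT1, h7, Nat.sub_eq_zero_iff_le.mp hv]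
          omega
        · exfalso
          have h9 : (j ^ 2 + 2 * j + 1 + (j + 1) + 1) * 2 ≤ (j ^ 2 + 2 * j + 1 + (j + 1) + 1) * v :=
            Nat.mul_le_mul_left _ h8
          (clear * - hv h9; omega)
      rw [hv1, mul_one] at hv
      have hj' : j ^ 2 = 3 * j + 4 := by (clear * - hv; omega)
      have hj5 : j = 4 := by nlinarith only [hj']
      have hb2 : b = 2 := by
        rw [hj5] at hbw
        have : (2 : ℕ) ^ 2 = 2 ^ b := by omega
        exact (Nat.pow_right_injective (le_refl 2) this).symm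
      subst hb2
      exact ⟨by omega, by omega⟩
    · -- `q = 3 mod 4`
      exfalso
      have hb : b = 1 := by omega
      rw [hb, pow_one] at hbw
      have h1 : 2 ^ a ∣ 4 * (j + 1 + 1) := by
        have h2 : (j + 1 + 1) * j ^ 2 = 4 * (j + 1 + 1) * w ^ 2 := by
          rw [hbw]; ring
        rw [h2] at h
        refine Nat.Coprime.dvd_of_dvd_mul_right ?_ h
        apply Nat.Coprime.pow_left
        rw [Nat.coprime_two_left]; exact hw.pow
      have h2 := Nat.le_of_dvd (by omega) h1
      have hj10 : j ≤ 10 := by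
        by_contra hcon
        have h11 : 11 ≤ j := by omega
        have h12 : 0 < 2 ^ a := by positivity
        have h13 : (j + 1) ^ 2 + (j + 1) + 1 + 3 ≤ 3 * (4 * (j + 1 + 1)) := by (clear * - hbound h2; omega)
        nlinarith only [hcon, h13]
      obtain ⟨v, hv⟩ := hw
      have hv2 : v ≤ 2 := by omega
      have ha5 : a ≤ 5 := by
        by_contra hcon
        have : 2 ^ 6 ≤ 2 ^ a := Nat.pow_le_pow_right (by norm_num) (by omega)
        omega
      interval_cases v
      · have : j = 2 := by omega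
        subst this
        have hc1 : c = 1 := by rw [hc]; decide
        rw [hc1, one_mul] at hm
        subst hm
        interval_cases a <;> omega
      · have : j = 6 := by omega
        subst this
        have hc1 : c = 3 := by rw [hc]; decide
        rw [hc1] at hm
        have : m = 19 := by omega
        subst this
        interval_cases a <;> omega
      · have : j = 10 := by omega
        subst this
        have hc1 : c = 1 := by rw [hc]; decide
        rw [hc1, one_mul] at hm
        subst hm
        interval_cases a <;> omega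
  · -- `q` even
    exfalso
    have h1 : Odd ((j + 1 + 1) * j ^ 2) := by
      apply Odd.mul _ hj.pow
      obtain ⟨i, hi⟩ := hj
      exact ⟨i + 1, by omega⟩
    have h2 : 2 ∣ (j + 1 + 1) * j ^ 2 := (dvd_pow_self 2 ha0).trans h
    exact h1.not_two_dvd_nat h2

/-- The characteristic. -/
theorem char_case {q c m p f a : ℕ} (hp : p.Prime) (hq : q = p ^ f) (hf : f ≠ 0)
    (hc : c = Nat.gcd 3 (q - 1))
    (hm : c * m = q ^ 2 + q + 1) (hT : m ∣ p ^ a - 1) (ha0 : a ≠ 0) (ha : a ≤ 3 * f) :
    a = 3 * f ∨ (q = 4 ∧ p ^ a = 8) := by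
  have hq2 : 2 ≤ q := by
    rw [hq]
    calc 2 ≤ p := hp.two_le
      _ = p ^ 1 := (pow_one p).symm
      _ ≤ p ^ f := Nat.pow_le_pow_right hp.pos (Nat.pos_of_ne_zero hf)
  by_cases h3 : a = 3 * f
  · exact Or.inl h3
  right
  obtain ⟨b, hb⟩ := Nat.exists_eq_add_of_le ha
  have hb0 : b ≠ 0 := by omega
  have hprod : p ^ a * p ^ b = q ^ 3 := by
    rw [← pow_add, ← hb, hq, ← pow_mul, mul_comm]
  have hA : 2 ≤ p ^ a := by
    calc 2 ≤ p := hp.two_le
      _ = p ^ 1 := (pow_one p).symm
      _ ≤ p ^ a := Nat.pow_le_pow_right hp.pos (Nat.pos_of_ne_zero ha0)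
  have hB : 2 ≤ p ^ b := by
    calc 2 ≤ p := hp.two_le
      _ = p ^ 1 := (pow_one p).symm
      _ ≤ p ^ b := Nat.pow_le_pow_right hp.pos (Nat.pos_of_ne_zero hb0)
  have hc13 := gcd_three (q - 1)
  rw [← hc] at hc13
  -- `m ∣ q ^ 3 - 1`
  have hmq : m ∣ q ^ 3 - 1 := by
    have h1 : m ∣ q ^ 2 + q + 1 := ⟨c, by rw [← hm]; ring⟩
    obtain ⟨j, rfl⟩ : ∃ j, q = j + 1 := ⟨q - 1, by omega⟩
    have h2 : (j + 1) ^ 3 - 1 = j * ((j + 1) ^ 2 + (j + 1) + 1) := by
      have : (j + 1) ^ 3 = j * ((j + 1) ^ 2 + (j + 1) + 1) + 1 := by ring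
      omega
    rw [h2]
    exact h1.mul_left j
  have hmB : m ∣ p ^ b - 1 := by
    have h1 : q ^ 3 - 1 = p ^ b * (p ^ a - 1) + (p ^ b - 1) := by
      rw [Nat.mul_sub, mul_one, mul_comm, hprod]
      have : p ^ b ≤ q ^ 3 := by rw [← hprod]; nlinarith only [hA, hB]
      omega
    rw [h1] at hmq
    exact (Nat.dvd_add_right (hT.mul_left _)).mp hmq
  have h1 := Nat.le_of_dvd (by omega) hT
  have h2 := Nat.le_of_dvd (by omega) hmB
  have h4 : (m + 1) * (m + 1) ≤ q ^ 3 := by
    rw [← hprod]; exact Nat.mul_le_mul (by omega) (by omega)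
  rcases hc13 with h5 | h5
  · exfalso
    rw [h5, one_mul] at hm
    rw [hm] at h4
    nlinarith only [h4]
  · rw [h5] at hm
    have h6 : (q ^ 2 + q + 4) * (q ^ 2 + q + 4) ≤ 9 * q ^ 3 := by
      have : q ^ 2 + q + 4 = 3 * (m + 1) := by omega
      rw [this]; linarith only [h4]
    have h7 : q ≤ 6 := by
      by_contra hcon
      have : 7 ≤ q := by omega
      nlinarith only [h6, Nat.pow_le_pow_left this 2]
    have h3q : 3 ∣ q - 1 := by
      rw [h5] at hc
      have := Nat.gcd_dvd_right 3 (q - 1)
      rwa [← hc] at this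
    have hq4 : q = 4 := by (clear * - hq2 h7 h3q; omega)
    refine ⟨hq4, ?_⟩
    rw [hq4] at hm hprod
    have hm7 : m = 7 := by omega
    rw [hm7] at h1 h2
    have h8 : 8 ≤ p ^ a := by omega
    have h9 : 8 ≤ p ^ b := by omega
    nlinarith only [hprod, h8, h9]

end Cfsg.Agent.H363.ArithL3
end

-- part: H363/PslThree
section
/-!
# `PSL₃(q)` by order and spectrum: simplicity
-/

set_option autoImplicit false

namespace Cfsg.Agent.H363.PslThree

open Matrix Module Cfsg.Agent.H363.PslSpec Cfsg.Agent.H363.Frat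

universe u

/-- the block matrix -/
noncomputable def blk {F : Type u} [Field F] (A : Matrix (Fin 2) (Fin 2) F) :
    Matrix (Fin 3) (Fin 3) F :=
  Matrix.reindex finSumFinEquiv finSumFinEquiv
    (Matrix.fromBlocks A 0 0 (Matrix.scalar (Fin 1) (A.det)⁻¹))

theorem blk_one {F : Type u} [Field F] : blk (1 : Matrix (Fin 2) (Fin 2) F) = 1 := by
  simp only [blk, _root_.Nat.reduceAdd, _root_.Matrix.det_one, _root_.inv_one, _root_.Matrix.scalar_apply, _root_.Matrix.diagonal_one, _root_.Matrix.fromBlocks_one, _root_.Matrix.reindex_apply, _root_.Matrix.submatrix_one_equiv]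

theorem blk_mul {F : Type u} [Field F] (A B : Matrix (Fin 2) (Fin 2) F) :
    blk (A * B) = blk A * blk B := by
  have : Matrix.scalar (Fin 1) ((A * B).det)⁻¹ =
      Matrix.scalar (Fin 1) (A.det)⁻¹ * Matrix.scalar (Fin 1) (B.det)⁻¹ := by
    rw [← map_mul]
    congr 1
    rw [Matrix.det_mul, mul_inv]
  rw [blk, blk, blk, this, Matrix.reindex_apply, Matrix.reindex_apply, Matrix.reindex_apply,
    Matrix.submatrix_mul_equiv, Matrix.fromBlocks_multiply]
  simp only [_root_.Nat.reduceAdd, _root_.Matrix.scalar_apply, _root_.Matrix.diagonal_mul_diagonal, _root_.Matrix.mul_zero, _root_.add_zero, _root_.Matrix.zero_mul, _root_.zero_add]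

theorem blk_det {F : Type u} [Field F] {A : Matrix (Fin 2) (Fin 2) F} (hA : A.det ≠ 0) :
    (blk A).det = 1 := by
  rw [blk, Matrix.det_reindex_self, Matrix.det_fromBlocks_zero₂₁]
  simp [mul_inv_cancel₀ hA]

theorem blk_injective {F : Type u} [Field F] : Function.Injective (blk (F := F)) := by
  intro A B h
  have h1 := (Matrix.reindex finSumFinEquiv finSumFinEquiv).injective h
  exact (Matrix.fromBlocks_inj.mp h1).1

/-- `GL₂` in `SL₃`. -/
noncomputable def emb (F : Type u) [Field F] :
    GL (Fin 2) F →* Matrix.SpecialLinearGroup (Fin 3) F where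
  toFun A := ⟨blk (A : Matrix (Fin 2) (Fin 2) F), blk_det (A.isUnit.map Matrix.detMonoidHom).ne_zero⟩
  map_one' := Subtype.ext blk_one
  map_mul' A B := Subtype.ext (blk_mul _ _)

theorem emb_injective (F : Type u) [Field F] : Function.Injective (emb F) := by
  intro A B h
  apply Units.ext
  exact blk_injective (congrArg Subtype.val h)

/-- An element of order divisible by `(q² - 1) / gcd (3, q - 1)`. -/
theorem exists_big {F : Type u} [Field F] [Finite F] :
    ∃ x : ProjectiveSpecialLinearGroup (Fin 3) F,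
      Nat.card F ^ 2 - 1 ∣ orderOf x * Nat.gcd 3 (Nat.card F - 1) := by
  obtain ⟨K, _, _, hK, f, hf⟩ := Cfsg.Agent.LieExceptional.CyclicSylow.exists_singer F 2
  obtain ⟨ζ, hζ⟩ := IsCyclic.exists_generator (α := Kˣ)
  have hord : orderOf ζ = Nat.card F ^ 2 - 1 := by
    rw [orderOf_eq_card_of_forall_mem_zpowers hζ, Nat.card_units, hK]
  have h1 : orderOf (emb F (f ζ)) = Nat.card F ^ 2 - 1 := by
    rw [orderOf_injective (emb F) (emb_injective F), orderOf_injective f hf, hord]
  refine ⟨pr F 3 (emb F (f ζ)), ?_⟩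
  have h2 := lift_pow (emb F (f ζ)) (pow_orderOf_eq_one (pr F 3 (emb F (f ζ))))
  rw [← h1]
  exact orderOf_dvd_of_pow_eq_one h2

/-- The order of `PSL₃(q)`. -/
theorem card_psl_three {F : Type u} [Field F] [Fintype F] :
    Nat.gcd 3 (Fintype.card F - 1) *
      Nat.card (Matrix.ProjectiveSpecialLinearGroup (Fin 3) F) =
      Fintype.card F ^ 3 * ((Fintype.card F ^ 2 - 1) * (Fintype.card F ^ 3 - 1)) := by
  have h1 := Cfsg.Agent.S0243.result (F := F) rfl 3 (by norm_num)
  rw [Fin.prod_univ_three] at h1
  have hq : 1 < Fintype.card F := Fintype.one_lt_card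
  generalize Nat.card (Matrix.ProjectiveSpecialLinearGroup (Fin 3) F) = N at h1 ⊢
  generalize Fintype.card F = q at h1 hq ⊢
  generalize Nat.gcd 3 (q - 1) = d at h1 ⊢
  have e1 : q ^ 3 - q ^ ((0 : Fin 3) : ℕ) = q ^ 3 - 1 := by simp only [_root_.Fin.isValue, _root_.Fin.coe_ofNat_eq_mod, _root_.Nat.zero_mod, _root_.pow_zero]
  have e2 : q ^ 3 - q ^ ((1 : Fin 3) : ℕ) = q * (q ^ 2 - 1) := by
    simp only [Fin.val_one, pow_one]
    rw [Nat.mul_sub, mul_one]
    congr 1
    ring
  have e3 : q ^ 3 - q ^ ((2 : Fin 3) : ℕ) = q ^ 2 * (q - 1) := by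
    have : ((2 : Fin 3) : ℕ) = 2 := rfl
    rw [this, Nat.mul_sub, mul_one]
    congr 1
  rw [e1, e2, e3] at h1
  have h2 : (q - 1) * (d * N) = (q - 1) * (q ^ 3 * ((q ^ 2 - 1) * (q ^ 3 - 1))) := by
    calc (q - 1) * (d * N) = d * ((q - 1) * N) := by ring
      _ = _ := h1
      _ = _ := by ring
  exact Nat.eq_of_mul_eq_mul_left (by omega) h2

/-- An element of order eight acting on a group of odd order `Q`, `|Q| ≡ 3 mod 4`: its square
fixes a nontrivial element. -/
theorem exists_fixed {Q : Type*} [Group Q] [Finite Q] (P : MulAut Q) (hP : P ^ 8 = 1)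
    (hQ : Nat.card Q % 4 = 3) : ∃ v : Q, v ≠ 1 ∧ (P ^ 2) v = v := by
  classical
  by_contra hcon
  push Not at hcon
  have hP1 : ∀ (k : ℕ) (v : Q), (P ^ k) v = 1 ↔ v = 1 := by
    intro k v
    constructor
    · intro h
      apply (P ^ k).injective
      rw [h, map_one]
    · intro h; rw [h, map_one]
  have hcomm : ∀ (k : ℕ) (v : Q), (P ^ k) (P v) = P ((P ^ k) v) := by
    intro k v
    rw [← MulAut.mul_apply, ← MulAut.mul_apply, (Commute.self_pow P k).eq]
  let σ : Equiv.Perm Q := P.toEquiv
  have hσ : ∀ (k : ℕ) (v : Q), (σ ^ k) v = (P ^ k) v := by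
    intro k
    induction k with
    | zero => intro v; rfl
    | succ k ih =>
      intro v
      rw [pow_succ, pow_succ, Equiv.Perm.mul_apply, MulAut.mul_apply, ih]
      rfl
  let X1 : Q → Prop := fun v => v ≠ 1 ∧ (P ^ 4) v = v
  let X2 : Q → Prop := fun v => (P ^ 4) v ≠ v
  have hX1 : ∀ v, X1 (σ v) ↔ X1 v := by
    intro v
    show (P v ≠ 1 ∧ (P ^ 4) (P v) = P v) ↔ (v ≠ 1 ∧ (P ^ 4) v = v)
    rw [hcomm, P.injective.eq_iff]
    have := hP1 1 v
    rw [pow_one] at this
    exact and_congr (not_congr this) Iff.rfl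
  have hX2 : ∀ v, X2 (σ v) ↔ X2 v := by
    intro v
    show ((P ^ 4) (P v) ≠ P v) ↔ ((P ^ 4) v ≠ v)
    rw [hcomm, Ne, P.injective.eq_iff]
  have h1 : 2 ^ (1 + 1) ∣ Nat.card {v // X1 v} := by
    apply CommUnip.pow_dvd_card (σ.subtypePerm hX1) Nat.prime_two
    · ext v
      rw [Equiv.Perm.subtypePerm_pow, Equiv.Perm.subtypePerm_apply]
      show (σ ^ 4) (v : Q) = v
      rw [hσ]
      exact v.2.2
    · intro v hv
      rw [Equiv.Perm.subtypePerm_pow] at hv
      have h2 := congrArg Subtype.val hv
      rw [Equiv.Perm.subtypePerm_apply] at h2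
      have h3 : (σ ^ 2) (v : Q) = v := h2
      rw [hσ] at h3
      exact hcon v v.2.1 h3
  have h2 : 2 ^ (2 + 1) ∣ Nat.card {v // X2 v} := by
    apply CommUnip.pow_dvd_card (σ.subtypePerm hX2) Nat.prime_two
    · ext v
      rw [Equiv.Perm.subtypePerm_pow, Equiv.Perm.subtypePerm_apply]
      show (σ ^ 8) (v : Q) = v
      rw [hσ, hP]
      rfl
    · intro v hv
      rw [Equiv.Perm.subtypePerm_pow] at hv
      have h2 := congrArg Subtype.val hv
      rw [Equiv.Perm.subtypePerm_apply] at h2
      have h3 : (σ ^ 4) (v : Q) = v := h2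
      rw [hσ] at h3
      exact v.2 h3
  have h3 : Nat.card Q = 1 + Nat.card {v // X1 v} + Nat.card {v // X2 v} := by
    have e : Q ≃ (Unit ⊕ {v // X1 v}) ⊕ {v // X2 v} :=
      { toFun := fun v => if h : (P ^ 4) v = v then
          (if h1 : v = 1 then Sum.inl (Sum.inl ()) else Sum.inl (Sum.inr ⟨v, h1, h⟩))
          else Sum.inr ⟨v, h⟩
        invFun := Sum.elim (Sum.elim (fun _ => 1) (fun v => v.1)) (fun v => v.1)
        left_inv := fun v => by
          by_cases h : (P ^ 4) v = v
          · by_cases h1 : v = 1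
            · simp only [h1, _root_.map_one, ↓ _root_.reduceDIte, _root_.Sum.elim_inl]
            · simp [h, h1]
          · simp [h]
        right_inv := fun v => by
          rcases v with (v | v) | v
          · simp only [_root_.Sum.elim_inl, _root_.map_one, ↓ _root_.reduceDIte]
          · have h1 : (v : Q) ≠ 1 := v.2.1
            have h2 : (P ^ 4) (v : Q) = v := v.2.2
            simp [h1, h2]
          · have h1 : (P ^ 4) (v : Q) ≠ v := v.2
            simp [h1] }
    rw [Nat.card_congr e, Nat.card_sum, Nat.card_sum, Nat.card_unique]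
  have h4 : 4 ∣ Nat.card {v // X1 v} := h1
  have h5 : 8 ∣ Nat.card {v // X2 v} := h2
  omega

/-- A power of an element has prescribed order. -/
theorem exists_pow_order {G : Type*} [Group G] [Finite G] (x : G) {a : ℕ} (h : a ∣ orderOf x) :
    ∃ y : G, orderOf y = a := by
  obtain ⟨b, hb⟩ := h
  have hb0 : b ≠ 0 := by
    rintro rfl
    rw [mul_zero] at hb
    exact (orderOf_pos x).ne' hb
  exact ⟨x ^ b, by
    rw [orderOf_pow' x hb0, hb, Nat.gcd_eq_right (Dvd.intro_left _ rfl)]
    exact Nat.mul_div_cancel _ (Nat.pos_of_ne_zero hb0)⟩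

/-- **A finite group with the order and the spectrum of `PSL₃(q)` is simple.** -/
theorem isSimple {F : Type u} [Field F] [Fintype F] {G : Type*} [Group G] [Finite G]
    (hspec : Set.range (orderOf : G → ℕ) =
      Set.range (orderOf : Matrix.ProjectiveSpecialLinearGroup (Fin 3) F → ℕ))
    (hcard : Nat.card G = Nat.card (Matrix.ProjectiveSpecialLinearGroup (Fin 3) F)) :
    IsSimpleGroup G := by
  obtain ⟨p, hchar⟩ := CharP.exists F
  obtain ⟨f, hp, hf⟩ := FiniteField.card F p
  have hpf : Fact p.Prime := ⟨hp⟩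
  have hNF : Nat.card F = Fintype.card F := Nat.card_eq_fintype_card
  have hcardF := card_psl_three (F := F)
  rw [← hcard] at hcardF
  -- transfer
  have htr : ∀ g : G, ∃ y : Matrix.ProjectiveSpecialLinearGroup (Fin 3) F, orderOf y = orderOf g := by
    intro g
    have h1 : orderOf g ∈ Set.range (orderOf : Matrix.ProjectiveSpecialLinearGroup (Fin 3) F → ℕ) := by
      rw [← hspec]; exact ⟨g, rfl⟩
    exact h1
  have htr' : ∀ y : Matrix.ProjectiveSpecialLinearGroup (Fin 3) F, ∃ g : G, orderOf g = orderOf y := by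
    intro y
    have h1 : orderOf y ∈ Set.range (orderOf : G → ℕ) := by
      rw [hspec]; exact ⟨y, rfl⟩
    exact h1
  have hsinger := fun {r : ℕ} (hr : r.Prime) => orderOf_dvd_singer (F := F) (n := 3) hr (by norm_num)
  obtain ⟨x0, hx0⟩ := PslSpec.exists_singer (F := F) (n := 3) (by norm_num)
  have hbig := exists_big (F := F)
  have hnot := fun {l j e : ℕ} (hl : l.Prime) => not_dvd_orderOf (F := F) (n := 3) hp (l := l)
    (j := j) (e := e) hl
  rw [hNF] at hbig hx0
  simp only [hNF] at hsinger hnot
  set q := Fintype.card F with hq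
  have hq1 : 1 < q := Fintype.one_lt_card
  set c := Nat.gcd 3 (q - 1) with hc
  have hc13 := ArithL3.gcd_three (q - 1)
  rw [← hc] at hc13
  -- `m`
  have hM : (q ^ 3 - 1) / (q - 1) = q ^ 2 + q + 1 := by
    obtain ⟨j, hj⟩ : ∃ j, q = j + 1 := ⟨q - 1, by omega⟩
    rw [hj, Nat.add_sub_cancel]
    have h1 : (j + 1) ^ 3 - 1 = j * ((j + 1) ^ 2 + (j + 1) + 1) := by
      have : (j + 1) ^ 3 = j * ((j + 1) ^ 2 + (j + 1) + 1) + 1 := by ring
      omega
    rw [h1, Nat.mul_div_cancel_left _ (by omega)]
  have hcM : c ∣ q ^ 2 + q + 1 := by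
    rcases hc13 with h | h
    · rw [h]; exact one_dvd _
    · rw [h]
      have h3 : 3 ∣ q - 1 := by
        have := Nat.gcd_dvd_right 3 (q - 1)
        rwa [← hc, h] at this
      obtain ⟨i, hi⟩ := h3
      have hqi : q = 3 * i + 1 := by (clear * - hq1 hi; omega)
      rw [hqi]
      exact ⟨3 * i ^ 2 + 3 * i + 1, by ring⟩
  obtain ⟨m, hm⟩ := hcM
  have hc0 : 0 < c := by rcases hc13 with h | h <;> omega
  have hmdiv : (q ^ 2 + q + 1) / c = m := by rw [hm, Nat.mul_div_cancel_left _ hc0]
  rw [hM, hmdiv] at hx0 hsinger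
  have hm7 : 7 ≤ m := by
    rcases hc13 with h | h
    · rw [h, one_mul] at hm; nlinarith only [hq1, hm]
    · have h3 : 3 ∣ q - 1 := by
        have := Nat.gcd_dvd_right 3 (q - 1)
        rwa [← hc, h] at this
      have : 4 ≤ q := by (clear * - hq1 h3; omega)
      rw [h] at hm; nlinarith only [hm, this]
  set k := q ^ 3 * ((q + 1) * (q - 1) ^ 2) with hk
  have hq2 : q ^ 2 - 1 = (q + 1) * (q - 1) := by
    obtain ⟨j, hj⟩ : ∃ j, q = j + 1 := ⟨q - 1, by (clear * - hq1; omega)⟩
    rw [hj, Nat.add_sub_cancel]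
    have : (j + 1) ^ 2 = (j + 1 + 1) * j + 1 := by ring
    omega
  have hq3 : q ^ 3 - 1 = (q - 1) * (q ^ 2 + q + 1) := by
    obtain ⟨j, hj⟩ : ∃ j, q = j + 1 := ⟨q - 1, by (clear * - hq1; omega)⟩
    rw [hj, Nat.add_sub_cancel]
    have : (j + 1) ^ 3 = j * ((j + 1) ^ 2 + (j + 1) + 1) + 1 := by ring
    omega
  have hGcard : Nat.card G = m * k := by
    have h1 : c * Nat.card G = c * (m * k) := by
      rw [hcardF, hk, hq2, hq3, hm]; ring
    exact Nat.eq_of_mul_eq_mul_left hc0 h1
  -- primes dividing `m`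
  have hprm : ∀ r : ℕ, r.Prime → r ∣ m → ¬ r ∣ q ∧ ¬ r ∣ q - 1 ∧ ¬ r ∣ q + 1 ∧ r ∣ q ^ 3 - 1 := by
    intro r hr hrm
    have h1 : r ∣ q ^ 2 + q + 1 := hrm.trans ⟨c, by rw [hm]; ring⟩
    refine ⟨fun h => ?_, fun h => ?_, fun h => ?_, ?_⟩
    · have h2 : r ∣ q ^ 2 + q := Dvd.dvd.add (h.trans (dvd_pow_self q two_ne_zero)) h
      exact hr.one_lt.ne' (Nat.dvd_one.mp ((Nat.dvd_add_right h2).mp h1))
    · obtain ⟨j, hj⟩ : ∃ j, q = j + 1 := ⟨q - 1, by (clear * - hq1; omega)⟩
      rw [hj, Nat.add_sub_cancel] at h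
      rw [hj] at h1
      have h2 : (j + 1) ^ 2 + (j + 1) + 1 = j * (j + 3) + 3 := by ring
      rw [h2] at h1
      have h3 : r ∣ 3 := (Nat.dvd_add_right (h.mul_right _)).mp h1
      have h4 : r = 3 := (Nat.prime_dvd_prime_iff_eq hr Nat.prime_three).mp h3
      subst h4
      have h5 : c = 3 := by
        rw [hc]
        apply Nat.gcd_eq_left
        rw [hj, Nat.add_sub_cancel]; exact h
      obtain ⟨i, hi⟩ := h
      rw [h5, hj, hi] at hm
      have h6 : m = 3 * (i ^ 2 + i) + (3 * i + 1) - 3 * i + 3 * i - 3 * i + 0 + (0 : ℕ) := by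
        have : 3 * m = 3 * (3 * i ^ 2 + 3 * i + 1) := by rw [← hm]; ring
        omega
      have h7 : m = 3 * (i ^ 2 + i) + 1 := by (clear * - h6; omega)
      omega
    · have h2 : q ^ 2 + q + 1 = q * (q + 1) + 1 := by ring
      rw [h2] at h1
      exact hr.one_lt.ne' (Nat.dvd_one.mp ((Nat.dvd_add_right (h.mul_left q)).mp h1))
    · rw [hq3]; exact h1.mul_left _
  have hrd : ∀ r : ℕ, r.Prime → r ∣ m → ∀ d, 0 < d → d < 3 → ¬ r ∣ q ^ d - 1 := by
    intro r hr hrm d hd0 hd3
    obtain ⟨h1, h2, h3, -⟩ := hprm r hr hrm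
    interval_cases d
    · rwa [pow_one]
    · rw [hq2]
      intro h
      rcases (hr.dvd_mul).mp h with h | h
      · exact h3 h
      · exact h2 h
  have hnomk : ∀ r : ℕ, r.Prime → r ∣ m → ¬ r ∣ k := by
    intro r hr hrm h
    obtain ⟨h1, h2, h3, -⟩ := hprm r hr hrm
    rw [hk] at h
    rcases (hr.dvd_mul).mp h with h | h
    · exact h1 (hr.dvd_of_dvd_pow h)
    · rcases (hr.dvd_mul).mp h with h | h
      · exact h3 h
      · exact h2 (hr.dvd_of_dvd_pow h)
  have hcop : m.Coprime k := Nat.coprime_of_dvd (fun r hr h1 h2 => hnomk r hr h1 h2)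
  obtain ⟨x, hx⟩ := htr' x0
  rw [hx0] at hx
  have hyp : IsoHall.Hyp G m k x :=
    { ord := hx
      card := hGcard
      cop := hcop
      two := by omega
      nonadj := by
        intro r s hr hs hrm hsk g hg
        obtain ⟨y, hy⟩ := htr g
        have h1 := hsinger hr (hprm r hr hrm).2.2.2 (hrd r hr hrm) y
          (by rw [hy, hg]; exact dvd_mul_right _ _)
        rw [hy, hg] at h1
        exact hnomk s hs ((dvd_mul_left s r).trans h1) hsk }
  have hmod : k ≡ 3 [MOD m] := by
    have h1 : k = 3 + (q ^ 2 + q + 1) * ((q - 1) * (q ^ 3 * (q - 1) - 1)) + (q^3 - 1) * 0 ∨ True := Or.inr trivial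
    obtain ⟨j, hj⟩ : ∃ j, q = j + 1 := ⟨q - 1, by (clear * - hq1; omega)⟩
    have h2 : (q ^ 3 * ((q + 1) * (q - 1) ^ 2) : ℕ) ≡ 3 [MOD (q ^ 2 + q + 1)] := by
      rw [hj, Nat.add_sub_cancel]
      have h3 : (j + 1) ^ 3 * ((j + 1 + 1) * j ^ 2) =
        3 + ((j + 1) ^ 2 + (j + 1) + 1) * (j ^ 4 + 2 * j ^ 3 + j - 1) ∨ j = 0 := by
        rcases Nat.eq_zero_or_pos j with h | h
        · exact Or.inr h
        · left
          obtain ⟨i, rfl⟩ : ∃ i, j = i + 1 := ⟨j - 1, by (clear * - hq1 hj; omega)⟩
          have : (i + 1) ^ 4 + 2 * (i + 1) ^ 3 + (i + 1) - 1 = (i + 1) ^ 4 + 2 * (i + 1) ^ 3 + i := by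
            (clear * -; omega)
          rw [this]
          ring
      rcases h3 with h3 | h3
      · rw [h3]
        simp only [Nat.ModEq, _root_.Nat.add_mul_mod_self_left]
      · omega
    exact h2.of_dvd ⟨c, by rw [hm]; ring⟩
  have hk3 : 3 < k := by
    rw [hk]
    have h1 : 2 ^ 3 ≤ q ^ 3 := Nat.pow_le_pow_left (by omega) 3
    have h2 : 1 ≤ (q + 1) * (q - 1) ^ 2 := Nat.mul_pos (by omega) (pow_pos (by (clear * - hq1; omega)) 2)
    nlinarith only [h1, h2]
  rcases IsoHall.simple_or hyp Nat.prime_three (by omega) hmod hk3 with h |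
    ⟨t, N, ht, htk, hNn, hN1, hNt, hNc, hNe, hmN⟩
  · exact h
  exfalso
  have htf : Fact t.Prime := ⟨ht⟩
  obtain ⟨a, ha⟩ := IsPGroup.iff_card.mp hNt
  have ha0 : a ≠ 0 := by
    rintro rfl
    rw [pow_zero] at ha
    exact hN1 (Subgroup.card_eq_one.mp ha)
  have hN2 : 1 < Nat.card N := by
    rw [ha]; exact Nat.one_lt_pow ha0 ht.one_lt
  have htm : ¬ t ∣ m := fun h => hnomk t ht h htk
  have hNk : Nat.card N ∣ k := by
    have h1 : Nat.card N ∣ m * k := by rw [← hGcard]; exact Subgroup.card_subgroup_dvd_card N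
    have h2 : (Nat.card N).Coprime m := by
      rw [ha]; exact Nat.Coprime.pow_left _ ((Nat.Prime.coprime_iff_not_dvd ht).mpr htm)
    exact h2.dvd_of_dvd_mul_left h1
  have hpq : p ∣ q := by rw [hf]; exact dvd_pow_self p f.ne_zero
  have hp1 : ¬ p ∣ q - 1 := by
    intro h
    have := Nat.dvd_sub hpq h
    rw [Nat.sub_sub_self hq1.le] at this
    exact hp.one_lt.ne' (Nat.dvd_one.mp this)
  have hp2 : ¬ p ∣ q + 1 := by
    intro h
    have := Nat.dvd_sub h hpq
    rw [Nat.add_sub_cancel_left] at this
    exact hp.one_lt.ne' (Nat.dvd_one.mp this)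
  by_cases htp : t = p
  · -- characteristic
    subst htp
    have hNq : t ^ a ∣ q ^ 3 := by
      rw [ha] at hNk
      rw [hk] at hNk
      refine Nat.Coprime.dvd_of_dvd_mul_right ?_ hNk
      apply Nat.Coprime.pow_left
      rw [Nat.Prime.coprime_iff_not_dvd ht]
      intro h
      rcases (ht.dvd_mul).mp h with h | h
      · exact hp2 h
      · exact hp1 (ht.dvd_of_dvd_pow h)
    have ha3 : a ≤ 3 * f := by
      rw [hf, ← pow_mul] at hNq
      have := (Nat.pow_dvd_pow_iff_le_right ht.one_lt).mp hNq
      rw [mul_comm]; exact this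
    have hfac : (Nat.card N).factorization t = a := by
      rw [ha, ht.factorization_pow, Finsupp.single_eq_same]
    have hchar := ArithL3.char_case ht hf f.ne_zero hc hm.symm (by rw [← ha]; exact hmN) ha0 ha3
    -- primes dividing `q + 1`
    have hadj : ∀ s : ℕ, s.Prime → s ≠ 2 → s ∣ q + 1 → s ∣ t ^ a - 1 := by
      intro s hs hs2 hsq
      have hst : s ≠ t := by rintro rfl; exact hp2 hsq
      have hs1 : ¬ s ∣ q - 1 := by
        intro h
        have := Nat.dvd_sub hsq h
        have h2 : q + 1 - (q - 1) = 2 := by (clear * - hq1; omega)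
        rw [h2] at this
        exact hs2 ((Nat.prime_dvd_prime_iff_eq hs Nat.prime_two).mp this)
      have hsq' : ¬ s ∣ q := by
        intro h
        have := Nat.dvd_sub hsq h
        rw [Nat.add_sub_cancel_left] at this
        exact hs.one_lt.ne' (Nat.dvd_one.mp this)
      have hna : NonAdj G s t := by
        intro g hg
        obtain ⟨y, hy⟩ := htr g
        refine hnot (l := s) (j := 0) (e := 2) hs hsq' ?_ ?_ le_rfl le_rfl y ?_
        · intro h
          exact hs1 (h.trans (Nat.gcd_dvd_right _ _))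
        · intro d hd
          rw [zero_add, pow_one] at hd
          rcases Nat.even_or_odd d with he | ho
          · exact he.two_dvd
          · exfalso
            -- `q ^ d ≡ -1`
            have h1 : s ∣ q ^ d + 1 := by
              have : q + 1 ∣ q ^ d + 1 ^ d := ho.nat_add_dvd_pow_add_pow q 1
              rw [one_pow] at this
              exact hsq.trans this
            have h2 := Nat.dvd_sub h1 hd
            have h3 : 1 ≤ q ^ d := Nat.one_le_pow _ _ (by omega)
            have h4 : q ^ d + 1 - (q ^ d - 1) = 2 := by (clear * - h3; omega)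
            rw [h4] at h2
            exact hs2 ((Nat.prime_dvd_prime_iff_eq hs Nat.prime_two).mp h2)
        · rw [zero_add, pow_one, hy, hg]
      have hidx : s ^ 1 ∣ N.index := by
        rw [pow_one]
        have h1 : s ∣ Nat.card N * N.index := by
          rw [Subgroup.card_mul_index, hGcard, hk]
          exact ((hsq.mul_right _).mul_left _).mul_left _
        rcases (hs.dvd_mul).mp h1 with h | h
        · rw [ha] at h
          exact absurd ((Nat.prime_dvd_prime_iff_eq hs ht).mp (hs.dvd_of_dvd_pow h)) hst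
        · exact h
      have h1 := pow_dvd_of_normal hs ht hst hna N hidx
      rw [hfac, pow_one] at h1
      exact h1
    -- `s ∤ q ^ 3 - 1`
    have hs3 : ∀ s : ℕ, s.Prime → s ≠ 2 → s ∣ q + 1 → ¬ s ∣ q ^ 3 - 1 := by
      intro s hs hs2 hsq h
      have h1 : s ∣ q ^ 3 + 1 := by
        have : q + 1 ∣ q ^ 3 + 1 ^ 3 := Odd.nat_add_dvd_pow_add_pow q 1 (by decide)
        rw [one_pow] at this
        exact hsq.trans this
      have h2 := Nat.dvd_sub h1 h
      have h3 : 1 ≤ q ^ 3 := Nat.one_le_pow _ _ (by omega)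
      have h4 : q ^ 3 + 1 - (q ^ 3 - 1) = 2 := by (clear * - h3; omega)
      rw [h4] at h2
      exact hs2 ((Nat.prime_dvd_prime_iff_eq hs Nat.prime_two).mp h2)
    rcases hchar with h3f | ⟨hq4, hta⟩
    · have hNq3 : t ^ a = q ^ 3 := by rw [h3f, hf, ← pow_mul, mul_comm]
      by_cases hexs : ∃ s : ℕ, s.Prime ∧ s ≠ 2 ∧ s ∣ q + 1
      · obtain ⟨s, hs, hs2, hsq⟩ := hexs
        apply hs3 s hs hs2 hsq
        rw [← hNq3]
        exact hadj s hs hs2 hsq
      · -- `q + 1` is a power of two
        push Not at hexs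
        have hpow2 : q + 1 = 2 ^ (q + 1).primeFactorsList.length :=
          Nat.eq_prime_pow_of_unique_prime_dvd (by omega) (fun {d} hd hdq => by
            by_contra hne
            exact hexs d hd hne hdq)
        set b := (q + 1).primeFactorsList.length with hb
        have hb2 : 2 ≤ b := by
          by_contra hcon
          have : b ≤ 1 := by omega
          have h1 : 2 ^ b ≤ 2 ^ 1 := Nat.pow_le_pow_right (by norm_num) this
          omega
        have h4q : 4 ∣ q + 1 := by
          rw [hpow2]
          exact pow_dvd_pow 2 hb2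
        have hqmod : q % 4 = 3 := by (clear * - h4q; omega)
        -- an element of order 8
        have h8 : ∃ z : G, orderOf z = 8 := by
          obtain ⟨y, hy⟩ := hbig
          obtain ⟨z, hz⟩ := htr' y
          rw [← hz] at hy
          apply exists_pow_order z
          have h8q : 8 ∣ q ^ 2 - 1 := by
            rw [hq2]
            obtain ⟨i, hi⟩ := h4q
            have h2' : 2 ∣ q - 1 := by (clear * - hi; omega)
            obtain ⟨i', hi'⟩ := h2'
            rw [hi, hi']
            exact ⟨i * i', by ring⟩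
          have h8' := h8q.trans hy
          refine Nat.Coprime.dvd_of_dvd_mul_right ?_ h8'
          rcases hc13 with h | h
          · rw [h]; decide
          · rw [h]; decide
        obtain ⟨z, hz⟩ := h8
        -- the action on `N`
        have hP : (MulAut.conjNormal z : MulAut N) ^ 8 = 1 := by
          rw [← map_pow, ← hz, pow_orderOf_eq_one, map_one]
        obtain ⟨v, hv1, hv⟩ := exists_fixed (MulAut.conjNormal z : MulAut N) hP (by
          rw [ha, hNq3, Nat.pow_mod, hqmod])
        have hv' : z ^ 2 * (v : G) * (z ^ 2)⁻¹ = v := by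
          rw [← map_pow] at hv
          have := congrArg Subtype.val hv
          rwa [MulAut.conjNormal_apply] at this
        have hcomm : Commute (z ^ 2) (v : G) := by
          show z ^ 2 * (v : G) = (v : G) * z ^ 2
          calc z ^ 2 * (v : G) = (z ^ 2 * (v : G) * (z ^ 2)⁻¹) * z ^ 2 := by group
            _ = (v : G) * z ^ 2 := by rw [hv']
        have hz2 : orderOf (z ^ 2) = 4 := by
          rw [orderOf_pow' z two_ne_zero, hz]; rfl
        have hvt : orderOf (v : G) = t := by
          rw [Subgroup.orderOf_coe]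
          apply orderOf_eq_prime _ hv1
          exact Subtype.ext (hNe v v.2)
        have ht2 : t ≠ 2 := by
          rintro rfl
          (clear * - hqmod hpq; omega)
        have hord : orderOf (z ^ 2 * (v : G)) = 4 * t := by
          rw [hcomm.orderOf_mul_eq_mul_orderOf_of_coprime, hz2, hvt]
          rw [hz2, hvt]
          have : (4 : ℕ) = 2 ^ 2 := by norm_num
          rw [this]
          apply Nat.Coprime.pow_left
          exact (Nat.coprime_primes Nat.prime_two ht).mpr ht2.symm
        obtain ⟨y, hy⟩ := htr (z ^ 2 * (v : G))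
        refine hnot (l := 2) (j := 1) (e := 2) Nat.prime_two (by (clear * - hqmod; omega)) ?_ ?_ le_rfl le_rfl y ?_
        · rcases hc13 with h | h
          · rw [h]; decide
          · rw [h]; decide
        · intro d hd
          rcases Nat.even_or_odd d with he | ho
          · exact he.two_dvd
          · exfalso
            obtain ⟨i, hi⟩ := ho
            have h1 : q ^ d % 4 = 3 := by
              rw [hi, pow_succ, pow_mul, Nat.mul_mod, Nat.pow_mod, Nat.pow_mod q 2, hqmod]
              norm_num
            have h2 : (2 : ℕ) ^ (1 + 1) = 4 := by norm_num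
            rw [h2] at hd
            omega
        · rw [hy, hord]
          norm_num
    · -- `q = 4`
      have h5 := hadj 5 Nat.prime_five (by norm_num) (by rw [hq4])
      rw [hta] at h5
      omega
  · -- other primes
    have hNq : Nat.card N ∣ (q + 1) * (q - 1) ^ 2 := by
      rw [hk] at hNk
      refine Nat.Coprime.dvd_of_dvd_mul_left ?_ hNk
      rw [ha, hf]
      apply Nat.Coprime.pow_left
      apply Nat.Coprime.pow_right
      apply Nat.Coprime.pow_right
      exact (Nat.coprime_primes ht hp).mpr htp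
    by_cases ht2 : t = 2
    · subst ht2
      rw [ha] at hNq hmN hN2
      obtain ⟨hq5, ha5⟩ := ArithL3.two_case (by omega) hc hm.symm hmN hN2 hNq
      -- `|G| = 372000`
      have hc1 : c = 1 := by rw [hc, hq5]; decide
      obtain ⟨y, hy⟩ := hbig
      obtain ⟨z, hz⟩ := htr' y
      rw [hc1, mul_one, ← hz, hq5] at hy
      obtain ⟨w, hw⟩ := exists_pow_order z (a := 4) ((by norm_num : (4 : ℕ) ∣ 5 ^ 2 - 1).trans hy)
      have hidx : ¬ 2 ∣ N.index := by
        have h1 := N.card_mul_index
        rw [hGcard, hk, hq5, ha, ha5] at h1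
        rw [hc1, one_mul, hq5] at hm
        rw [← hm] at h1
        norm_num at h1
        omega
      have hwN : w ∈ N := by
        have h1 : orderOf (QuotientGroup.mk' N w) ∣ 4 := by
          rw [← hw]; exact orderOf_map_dvd _ _
        have h2 : orderOf (QuotientGroup.mk' N w) ∣ N.index := orderOf_dvd_natCard _
        have h3 : Nat.Coprime 4 N.index := by
          have : (4 : ℕ) = 2 ^ 2 := by norm_num
          rw [this]
          apply Nat.Coprime.pow_left
          exact (Nat.Prime.coprime_iff_not_dvd Nat.prime_two).mpr hidx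
        have h4 := Nat.dvd_gcd h1 h2
        rw [h3] at h4
        have h5 := orderOf_eq_one_iff.mp (Nat.dvd_one.mp h4)
        exact (QuotientGroup.eq_one_iff w).mp h5
      have h1 := hNe w hwN
      have h2 := orderOf_dvd_of_pow_eq_one h1
      rw [hw] at h2
      omega
    · refine ArithL3.odd_case (by omega) hc hm.symm hmN hN2 ?_
      by_cases h1 : t ∣ q + 1
      · left
        have h2 : ¬ t ∣ q - 1 := by
          intro h
          have := Nat.dvd_sub h1 h
          have h2 : q + 1 - (q - 1) = 2 := by (clear * - hq1; omega)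
          rw [h2] at this
          exact ht2 ((Nat.prime_dvd_prime_iff_eq ht Nat.prime_two).mp this)
        refine Nat.Coprime.dvd_of_dvd_mul_right ?_ hNq
        rw [ha]
        apply Nat.Coprime.pow_left
        apply Nat.Coprime.pow_right
        exact (Nat.Prime.coprime_iff_not_dvd ht).mpr h2
      · right
        refine Nat.Coprime.dvd_of_dvd_mul_left ?_ hNq
        rw [ha]
        apply Nat.Coprime.pow_left
        exact (Nat.Prime.coprime_iff_not_dvd ht).mpr h1

end Cfsg.Agent.H363.PslThree
end

private theorem dce_8c5b864086d4 : _root_.True := by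
  try have : _root_.True := by simp only [_root_.Matrix.ProjectiveSpecialLinearGroup.congr_simp]
  try have : _root_.True := by simp only [_root_.Cfsg.Agent.H363.PslThree.blk.eq_1]
  exact _root_.True.intro
end
end
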